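import Cfsg.Agent.Small.Facts
import Cfsg.Agent.PrimeDeg.Line

/-!
# A group with the order and the degree graph of a small simple group is simple
-/

set_option autoImplicit false

namespace Cfsg.Agent.Small

open Subgroup MulAction Cfsg.Agent.Local Cfsg.Agent.M11 Cfsg.Agent.Char Cfsg.Agent.Zass
open scoped Pointwise commutatorElement ComplexOrder

variable {G : Type*} [Group G] [Finite G]

theorem cc_of_sylow {p : ℕ} [hp : Fact p.Prime] (hsq : ¬ p * p ∣ Nat.card G)
    (hO : pPrimeCore p G = ⊥) (hn : Nat.card (Sylow p G) = p + 1) {x : G} (hx : orderOf x = p)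
    {P : Sylow p G} (hP : (P : Subgroup G) = zpowers x) : cc x = p := by
  obtain ⟨X, hX⟩ : p ∣ cc x := hx ▸ orderOf_dvd_cc rfl
  by_contra h
  obtain ⟨r, hr, hrX⟩ := Nat.exists_prime_and_dvd (n := X) fun e => h (by rw [hX, e, mul_one])
  have := Fact.mk hr
  obtain ⟨y, hy, hyx⟩ := exists_of_prime_dvd_cc hr (hX ▸ hrX.mul_left p)
  have hrp : ¬ r ∣ p := fun e => hsq ((Nat.mul_dvd_mul_left p
    ((Nat.prime_dvd_prime_iff_eq hr hp.out).1 e ▸ hrX)).trans (hX ▸ cc_dvd x))
  have h1 : ∀ Q : Sylow p G, x • Q = Q → Q = P := fun Q hQ => by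
    have h1 := P.isPGroup'.inf_normalizer_sylow Q
    rw [inf_eq_left.2 (hP.le.trans (zpowers_le_of_mem (Sylow.smul_eq_iff_mem_normalizer.1 hQ))),
      eq_comm, inf_eq_left] at h1
    exact Sylow.ext (P.is_maximal' Q.isPGroup' h1)
  have h2 : ∀ g, Commute g x → g • P = P := fun g hg => Sylow.smul_eq_iff_mem_normalizer.2 (by
    rw [← Sylow.coe_coe, hP]
    exact centralizer_le_normalizer _ (Wong.centralizer_zpowers x ▸ mem_centralizer_singleton_iff.2 hg))
  set F := {Q : Sylow p G | y • Q = Q ∧ Q ≠ P}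
  have h3 : p ∣ F.ncard := dvd_ncard_of_dvd_index_stabilizer (B := zpowers x) p F (Set.toFinite _)
    (fun ⟨_, i, rfl⟩ Q hQ => ⟨by
      change y • x ^ i • Q = x ^ i • Q
      rw [← mul_smul, (hyx.zpow_right i).eq, mul_smul, hQ.1], fun e => hQ.2 (smul_left_cancel (x ^ i)
        (e.trans (h2 _ (Commute.zpow_self x i)).symm))⟩) fun Q hQ => by
      have := (stabilizer (zpowers x) Q).index_dvd_card
      rw [Nat.card_zpowers, hx, Nat.dvd_prime hp.out] at this
      exact (this.resolve_left fun e => hQ.2 (h1 Q ((index_eq_one.1 e).ge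
        (mem_top ⟨x, mem_zpowers x⟩)))).symm.dvd
  have h4 : F ⊆ {P}ᶜ := fun Q hQ => hQ.2
  have h5 : ({P}ᶜ : Set (Sylow p G)).ncard = p := by
    have := Set.ncard_add_ncard_compl ({P} : Set (Sylow p G))
    rw [Set.ncard_singleton, hn] at this
    omega
  rcases F.eq_empty_or_nonempty with h6 | h6
  · have h7 := (isPGroup_zpowers_of_orderOf_eq hy).card_modEq_card_fixedPoints (Sylow p G)
    have h8 : fixedPoints (zpowers y) (Sylow p G) = {P} := Set.eq_singleton_iff_unique_mem.2
      ⟨fun ⟨_, i, rfl⟩ => h2 _ (hyx.zpow_left i), fun Q hQ => by_contra fun e =>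
        (h6 ▸ (⟨hQ ⟨y, mem_zpowers y⟩, e⟩ : Q ∈ F) : Q ∈ (∅ : Set _))⟩
    rw [hn, h8, Nat.card_unique] at h7
    exact hrp (by simpa using (Nat.modEq_iff_dvd' (by omega)).1 h7.symm)
  have h7 := Set.eq_of_subset_of_ncard_le h4
    (h5.trans_le (Nat.le_of_dvd ((Set.ncard_pos (Set.toFinite _)).2 h6) h3))
  have h8 : (toPermHom G (Sylow p G)).ker ≤ pPrimeCore p G := le_pPrimeCore inferInstance
    (hp.out.coprime_iff_not_dvd.2 fun e => by
      obtain ⟨w, hw, h8⟩ := exists_mem_orderOf_eq_of_dvd_card hp.out e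
      obtain ⟨g, hg⟩ := exists_conj_zpowers hp.out hsq hx h8
      have h9 : x ∈ (toPermHom G (Sylow p G)).ker := zpowers_le_of_mem
        (Normal.conj_mem' inferInstance w hw g) (hg.ge (mem_zpowers x))
      obtain ⟨Q, hQ⟩ := h6
      exact hQ.2 (h1 Q (congrArg (· Q) h9))).symm
  refine ne_one_of_orderOf_eq_prime hr hy (mem_bot.1 (hO ▸ h8 (Equiv.ext fun Q => ?_)))
  by_cases e : Q = P
  · exact e ▸ h2 y hyx
  · exact (h7.ge e).1

theorem le_of_simple {M L : Subgroup G} [IsSimpleGroup M] [L.Normal] {x : G} (hx : x ∈ M)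
    (hL : x ∈ L) (h1 : x ≠ 1) : M ≤ L :=
  subgroupOf_eq_top.1 ((Normal.subgroupOf inferInstance M).eq_bot_or_eq_top.resolve_left fun e =>
    h1 (congrArg Subtype.val (mem_bot.1 (e.le (mem_subgroupOf.2 hL : (⟨x, hx⟩ : M) ∈ _))) :))

theorem case120 (hd : Nat.card G ∣ 360) (hO : pPrimeCore 5 G = ⊥) (h6 : ¬ Rho G 6) {M : Subgroup G}
    [M.Normal] [IsSimpleGroup M] (hna : ¬ IsMulCommutative M) (hM : Nat.card M = 60) : M = ⊤ := by
  classical
  have := Fintype.ofFinite G
  have := Fact.mk Nat.prime_five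
  obtain ⟨x, hxM, hx⟩ := exists_mem_orderOf_eq_of_dvd_card (H := M) Nat.prime_five (by omega)
  have hx1 := ne_one_of_orderOf_eq_prime Nat.prime_five hx
  have h : PP 5 x := ⟨by norm_num, hx, fun e => absurd (e.trans hd) (by norm_num)⟩
  obtain ⟨P, hP⟩ := h.syl.exists_sylow_of_top
  have h1 := card_sup_mul_card_inf (le_normalizer_of_normal' (normalizer (zpowers x : Set G)) M)
  have h2 := P.normalizer_sup_eq_top' (N := M) (hP.le.trans (zpowers_le_of_mem hxM))
  have h3 := P.card_eq_index_normalizer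
  have h4 := card_sylow_modEq_one 5 G
  rw [← Sylow.coe_coe, hP] at h2 h3
  have h5 := (normalizer (zpowers x : Set G)).card_mul_index
  rw [sup_comm, h2, card_top, ← h5, hM, mul_assoc, mul_comm 60] at h1
  have h7 := Nat.eq_of_mul_eq_mul_left Nat.card_pos h1
  have h8 : (normalizer (zpowers x : Set G)).index ≠ 1 := fun e => by
    have := normalizer_eq_top_iff.1 (index_eq_one.1 e)
    have := card_le_of_le (le_of_simple hxM (mem_zpowers x) hx1)
    rw [Nat.card_zpowers] at this
    omega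
  have h9 : (normalizer (zpowers x : Set G)).index = 6 := by
    have h9 := Nat.le_of_dvd (by norm_num) (Dvd.intro _ h7)
    have h10 := Dvd.intro _ h7
    rw [h3, Nat.ModEq] at h4
    generalize (normalizer (zpowers x : Set G)).index = n at *
    interval_cases n <;> omega
  have h10 := h.card_norm
  rw [cc_of_sylow h.sq hO (h3.trans h9) hx hP] at h10
  have h11 : EE 5 x ⊆ Finset.univ.erase 0 := fun i hi =>
    Finset.mem_erase.2 ⟨fun e => h.E0 (e ▸ hi), Finset.mem_univ _⟩
  have h12 : (Finset.univ.erase (0 : ZMod 5)).card = 4 := rfl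
  have h13 := Finset.card_le_card h11
  have h14 := card_subgroup_dvd_card M
  have h0 : 0 < Nat.card G := Nat.card_pos
  rw [h9, ← h10] at h5
  rw [hM] at h14
  by_contra hT
  have h15 : Nat.card M ≠ Nat.card G := fun e => hT (eq_top_of_card_eq _ e)
  have h16 := Finset.eq_of_subset_of_card_le h11 (by omega)
  obtain ⟨χ, hχ, h17⟩ := (fact60 hna hM).2.of_normal
  have hG : Nat.card G = 120 := by omega
  have h18 : deg χ = 3 := by
    have h18 := deg_sq_le hχ
    have h19 := deg_dvd_card hχ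
    have h20 : ¬ 6 ∣ deg χ := fun e => h6 ⟨χ, hχ, e⟩
    have h21 : deg χ < 11 := by nlinarith
    rw [hG] at h19
    interval_cases deg χ <;> omega
  obtain ⟨m, hm⟩ := char_param_mult (irr_isCharacter hχ) (fun i : ZMod 5 => x ^ i.val) h.add
    (fun _ => 1) (by simp)
  rw [← Finset.add_sum_erase _ _ (Finset.mem_univ 0), Finset.sum_congr rfl fun i hi => by
    rw [← classFun_of_isConj (irr_isClassFunction hχ) (mem_EE.1 (h16.ge hi))], Finset.sum_const,
    h12, ZMod.val_zero, pow_zero, irr_deg hχ, h18, ZMod.card] at hm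
  have h19 : χ x = ((5 * m - 3 : ℤ) : ℂ) / (4 : ℤ) := by
    push_cast at hm ⊢
    linear_combination hm / 4
  obtain ⟨k, hk⟩ := FT.int_dvd_of_isIntegral (by norm_num) (h19 ▸ char_isIntegral (irr_isCharacter hχ) x)
  have h20 := char_norm_le (irr_isCharacter hχ) x
  rw [hk, Int.cast_mul, mul_div_cancel_left₀ _ (by norm_num)] at h19
  rw [h19, irr_deg hχ, h18, Complex.norm_intCast, Complex.natCast_re] at h20
  have h21 : |k| ≤ 3 := by exact_mod_cast h20
  obtain rfl : k = 3 := by have := abs_le.1 h21; omega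
  obtain ⟨K, hK, h22, -⟩ := char_exists_ker (irr_isCharacter hχ)
  have h23 := le_of_simple hxM ((h22 x).2 (by rw [h19, irr_deg hχ, h18]; norm_num)) hx1
  have := deg_sq_mul_le hχ M fun y hy g => (h22 _).1
    (h23 (mul_mem (Normal.conj_mem inferInstance y hy g) (inv_mem hy)))
  rw [h18] at this
  omega

theorem case360 (hG : Nat.card G = 360) (h6 : ¬ Rho G 6) (h10 : Rho G 10)
    {M : Subgroup (G ⧸ pPrimeCore 5 G)} [M.Normal] [IsSimpleGroup M] (hna : ¬ IsMulCommutative M)
    (hM : Nat.card M = 60) : False := by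
  have := Fintype.ofFinite G
  have hT := case120 (hG ▸ card_quotient_dvd_card _) (pPrimeCore_quotient_eq_bot 5)
    (fun h => h6 (h.of_surj _ (QuotientGroup.mk'_surjective _))) hna hM
  have h3 := (fact60 hna hM).2
  subst hT
  set R := pPrimeCore 5 G
  have hR : Nat.card R = 6 := by
    have := R.card_mul_index
    rw [card_top] at hM
    rw [index, hM] at this
    omega
  obtain ⟨x, hx⟩ := exists_prime_orderOf_dvd_card' (G := G) (hp := ⟨Nat.prime_five⟩) 5 (by omega)
  have hc := cent_of (by omega) Nat.prime_five (by rw [hG]; decide +kernel) hx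
    (coprime_card_pPrimeCore 5)
  have h1 := le_of_simple (M := ⊤) (L := (centralizer (R : Set G)).map (QuotientGroup.mk' R))
    (mem_top _) (mem_map_of_mem _ (mem_centralizer_iff.2 fun r hr =>
      mem_centralizer_singleton_iff.1 (hc hr))) fun e => by
        have := orderOf_dvd_card_of_mem ((QuotientGroup.eq_one_iff x).1 e)
        rw [hx, hR] at this
        omega
  have h2 : centralizer (R : Set G) ⊔ R = ⊤ := by
    have := comap_map_eq (QuotientGroup.mk' R) (centralizer (R : Set G))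
    rw [top_le_iff.1 h1, QuotientGroup.ker_mk', comap_top] at this
    exact this.symm
  by_cases hab : IsMulCommutative R
  · obtain ⟨χ, hχ, hd⟩ := h10
    have h4 : centralizer (R : Set G) = ⊤ := by rw [← h2, sup_eq_left.2 (le_centralizer R)]
    have := deg_sq_mul_le hχ R fun y hy g => by
      rw [← mem_centralizer_iff.1 (h4.ge (mem_top g)) y hy]
      simp
    have := Nat.le_of_dvd (irr_deg_pos hχ) hd
    nlinarith
  obtain ⟨ψ, hψ, h4⟩ : ∃ ψ, FT.IsIrr R ψ ∧ ψ 1 ≠ 1 := by
    by_contra h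
    push Not at h
    exact hab (FT.isMulCommutative_of_forall_lin h)
  obtain ⟨d, h5, hd⟩ := hψ.deg_pos
  have h7 := FT.irr1_bound hψ (Z := centralizer (R : Set G) ⊓ R) inf_le_right
    ((commutator_eq_bot_iff_le_centralizer.2 inf_le_left).trans_le bot_le)
  have h8 : d ^ 2 ≤ (centralizer (R : Set G) ⊓ R).relIndex R := by
    rw [hd] at h7
    exact_mod_cast h7
  have h9 := card_mul_relIndex (inf_le_right : centralizer (R : Set G) ⊓ R ≤ R)
  have h11 : d ≠ 1 := fun e => h4 (by simp [hd, e])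
  have h12 : 0 < Nat.card ↥(centralizer (R : Set G) ⊓ R) := Nat.card_pos
  have h13 : 2 ≤ d := by omega
  have h14 : FT.DProd (centralizer (R : Set G)) R ⊤ := ⟨h2, le_centralizer_iff.1 le_rfl,
    card_eq_one.1 (by nlinarith)⟩
  obtain rfl : d = 2 := by nlinarith
  obtain ⟨θ, hθ, k, hk⟩ := (h3.of_surj (G := centralizer (R : Set G)) 
    (((QuotientGroup.mk' R).comp (Subgroup.subtype _)).codRestrict ⊤ fun _ => trivial) fun g => by
      obtain ⟨c, hc, e⟩ := h1 g.2
      exact ⟨⟨c, hc⟩, Subtype.ext e⟩).exists_isIrr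
  exact h6 ⟨_, rho_of_top (h14.isIrr hθ hψ), k, deg_of_eq (by
    rw [h14.cfDprod_one, hk, hd]; push_cast; ring)⟩

theorem reduce (hN : Nat.card G < 6000) {p m : ℕ} (hp : p.Prime) (hG : Nat.card G = p * m)
    (hm : ¬ p ∣ m) (h : Rho G p) (hc : ∀ x : G, orderOf x = p → pPrimeCore p G ≤ centralizer {x})
    (hs : ¬ (IsSimpleGroup G ∧ ¬ IsMulCommutative G)) :
    ∃ M : Subgroup (G ⧸ pPrimeCore p G), M.Normal ∧ IsSimpleGroup M ∧ ¬ IsMulCommutative M ∧
      Nat.card M * Nat.card (pPrimeCore p G) ∣ Nat.card G ∧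
      Nat.card M ∈ [60, 168, 360, 504, 660, 1092, 2448, 2520, 3420, 4080, 5616].filter fun n =>
        n % p == 0 && (p * m % n == 0 && n != p * m) := by
  obtain ⟨M, h1, h2, h3, h4⟩ := struct hp hG hm h hc
  have h5 : Nat.card M * Nat.card (pPrimeCore p G) ∣ Nat.card G := by
    rw [card_eq_card_quotient_mul_card_subgroup (pPrimeCore p G)]
    exact Nat.mul_dvd_mul_right (card_subgroup_dvd_card M) _
  have h6 := (Dvd.intro _ rfl).trans h5
  refine ⟨M, h1, h2, h3, h5, List.mem_filter.2 ⟨card_mem h3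
    ((Nat.le_of_dvd Nat.card_pos h6).trans_lt hN), ?_⟩⟩
  simp only [← hG, Nat.mod_eq_zero_of_dvd h4, Nat.mod_eq_zero_of_dvd h6, beq_self_eq_true,
    Bool.true_and, bne_iff_ne]
  intro e
  have h7 : Nat.card (pPrimeCore p G) = 1 :=
    Nat.dvd_one.1 (Nat.dvd_of_mul_dvd_mul_left Nat.card_pos (by rw [mul_one]; exact h5.trans e.symm.dvd))
  have h8 : M = ⊤ := eq_top_of_card_eq _ (by
    rw [e, card_eq_card_quotient_mul_card_subgroup (pPrimeCore p G), h7, mul_one])
  let f : G ≃* M := (MulEquiv.ofBijective (QuotientGroup.mk' (pPrimeCore p G))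
    ⟨(MonoidHom.ker_eq_bot_iff _).1 ((QuotientGroup.ker_mk' _).trans (card_eq_one.1 h7)),
      QuotientGroup.mk'_surjective _⟩).trans (topEquiv.symm.trans (MulEquiv.subgroupCongr h8.symm))
  exact hs ⟨f.isSimpleGroup, fun h => h3 ⟨⟨fun a b => f.symm.injective (by
    rw [map_mul, map_mul, h.1.1])⟩⟩⟩

theorem easy (hN : Nat.card G < 6000) {N p m : ℕ} (hp : p.Prime) (hG : Nat.card G = N)
    (hm : N = p * m ∧ ¬ p ∣ m) (h : Rho G p)
    (hc : ∀ x : G, orderOf x = p → pPrimeCore p G ≤ centralizer {x})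
    (hl : ([60, 168, 360, 504, 660, 1092, 2448, 2520, 3420, 4080, 5616].filter fun n =>
        n % p == 0 && (p * m % n == 0 && n != p * m)) = []) :
    IsSimpleGroup G ∧ ¬ IsMulCommutative G := by
  by_contra hs
  obtain ⟨M, -, -, -, -, h1⟩ := reduce hN hp (hG.trans hm.1) hm.2 h hc hs
  simp [hl] at h1

theorem simple_of_rho {S : Type*} [Group S] [Finite S] [IsSimpleGroup S] (hS : ¬ IsMulCommutative S)
    (hlt : Nat.card S < 6000) (hcard : Nat.card G = Nat.card S)
    (h1 : ∀ p, p.Prime → Rho S p → Rho G p) (h2 : Rho G 6 → Rho S 6) (h3 : Rho S 10 → Rho G 10) :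
    IsSimpleGroup G ∧ ¬ IsMulCommutative G := by
  have hN : Nat.card G < 6000 := hcard ▸ hlt
  have c1 : ∀ {N p : ℕ}, Nat.card S = N → p.Prime → AC N p 1 = true → ∀ x : G, orderOf x = p →
      pPrimeCore p G ≤ centralizer {x} := fun h hp hA x hx =>
    cent_of hN.le hp (hcard ▸ h ▸ hA) hx (coprime_card_pPrimeCore _)
  have c2 : ∀ {N p : ℕ} (r b : ℕ), Nat.card S = N → p.Prime → r.Prime → AC N p (r ^ b) = true →
      ¬ r ^ (b + 1) ∣ N → Rho S r → ∀ x : G, orderOf x = p → pPrimeCore p G ≤ centralizer {x} :=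
    fun r b h hp hr hA hb hρ x hx => (cent_or hN.le hp hr (hcard ▸ h ▸ hA) (hcard ▸ h ▸ hb) hx
      (coprime_card_pPrimeCore _)).resolve_right (not_not.2 (h1 r hr hρ))
  have p7 := Nat.prime_seven
  have p5 := Nat.prime_five
  have p13 : Nat.Prime 13 := by norm_num
  have p17 : Nat.Prime 17 := by norm_num
  have p19 : Nat.Prime 19 := by norm_num
  have hm := card_mem hS hlt
  simp only [List.mem_cons, List.not_mem_nil, or_false] at hm
  rcases hm with h | h | h | h | h | h | h | h | h | h | h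
  · exact easy (m := 12) hN p5 (hcard.trans h) (by norm_num) (h1 _ p5 (fact60 hS h).1)
      (c1 h p5 (by decide +kernel)) (by decide)
  · obtain ⟨χ, h4, h5⟩ := (fact168 hS h).2
    exact easy (m := 24) hN p7 (hcard.trans h) (by norm_num) (h1 _ p7 (fact168 hS h).1)
      (c2 2 3 h p7 Nat.prime_two (by decide +kernel) (by norm_num) ⟨χ, h4, by omega⟩) (by decide)
  · by_contra hs
    obtain ⟨χ, h4, h5⟩ := (fact360 hS h).2
    obtain ⟨M, _, _, h6, -, h7⟩ := reduce (m := 72) hN p5 (hcard.trans h) (by norm_num)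
      (h1 _ p5 ⟨χ, h4, by omega⟩) (c1 h p5 (by decide +kernel)) hs
    exact case360 (hcard.trans h) (mt h2 (fact360 hS h).1) (h3 ⟨χ, h4, h5⟩) h6 (by simpa using h7)
  · by_contra hs
    obtain ⟨M, _, _, h6, -, h7⟩ := reduce (m := 72) hN p7 (hcard.trans h) (by norm_num)
      (h1 _ p7 (fact504 hS h).1) (c2 2 3 h p7 Nat.prime_two (by decide +kernel) (by norm_num)
        (fact504 hS h).2) hs
    exact fact504' hS h (h2 ((fact168 h6 (by simpa using h7)).2.of_normal.of_surj _
      (QuotientGroup.mk'_surjective _)))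
  · exact easy (m := 60) hN Nat.prime_eleven (hcard.trans h) (by norm_num)
      (h1 _ Nat.prime_eleven (fact660 hS h)) (c1 h Nat.prime_eleven (by decide +kernel)) (by decide)
  · exact easy (m := 84) hN p13 (hcard.trans h) (by norm_num) (h1 _ p13 (fact1092 hS h))
      (c1 h p13 (by decide +kernel)) (by decide)
  · exact easy (m := 144) hN p17 (hcard.trans h) (by norm_num) (h1 _ p17 (fact2448 hS h))
      (c1 h p17 (by decide +kernel)) (by decide)
  · by_contra hs
    obtain ⟨f5, f7, f2⟩ := fact2520 hS h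
    have hG := hcard.trans h
    obtain ⟨M, _, -, -, h4, h5⟩ := reduce (m := 504) hN p5 hG (by norm_num) (h1 _ p5 f5)
      (c1 h p5 (by decide +kernel)) hs
    obtain ⟨M', _, -, -, h6, h7⟩ := reduce (m := 360) hN p7 hG (by norm_num) (h1 _ p7 f7)
      (c2 2 3 h p7 Nat.prime_two (by decide +kernel) (by norm_num) f2) hs
    have h8 : Nat.card M = 60 ∨ Nat.card M = 360 := by simpa using h5
    have h9 : Nat.card M' = 168 ∨ Nat.card M' = 504 := by simpa using h7
    have h10 := Nat.le_of_dvd Nat.card_pos h4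
    have h11 := Nat.le_of_dvd Nat.card_pos h6
    have h0 : 0 < Nat.card (pPrimeCore 7 G) := Nat.card_pos
    have := Fact.mk p5
    by_cases h12 : 5 ∣ Nat.card (pPrimeCore 7 G)
    · obtain ⟨y, hy, h13⟩ := exists_mem_orderOf_eq_of_dvd_card p5 h12
      obtain ⟨k, hk⟩ := h12
      have h14 : k < 5 := by rcases h9 with e | e <;> rw [e] at h11 <;> omega
      have h15 : Nat.card (zpowers y) = 5 := by rw [Nat.card_zpowers, h13]
      have h16 : IsSylowIn 5 (zpowers y) (pPrimeCore 7 G) := ⟨zpowers_le_of_mem hy,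
        isPGroup_zpowers_of_orderOf_eq h13, fun e => by
          have := card_mul_relIndex (zpowers_le_of_mem hy)
          rw [h15] at this
          omega⟩
      have : (zpowers y).Normal := normalizer_eq_top_iff.1 (top_le_iff.1
        ((le_normalizer_of_normal' ⊤ _).trans (h16.normalizer_le
          (PrimeDeg.le_normalizer_of_card p5 h14 hk h15 h16.le))))
      exact ne_one_of_orderOf_eq_prime p5 h13 (zpowers_eq_bot.1 ((h1 _ p5 f5).eq_bot (B := 504) p5
        hG (by norm_num) h16.isPGroup))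
    · have h13 := card_le_of_le (le_pPrimeCore (N := M'.comap (QuotientGroup.mk' _)) (p := 5)
        inferInstance (p5.coprime_iff_not_dvd.2 (by
          rw [card_comap_mk', p5.dvd_mul]
          omega)).symm)
      rw [card_comap_mk'] at h13
      rcases h8 with e | e <;> rcases h9 with e' | e' <;> rw [e] at h10 <;> rw [e'] at h13 <;> omega
  · exact easy (m := 180) hN p19 (hcard.trans h) (by norm_num) (h1 _ p19 (fact3420 hS h))
      (c1 h p19 (by decide +kernel)) (by decide)
  · exact easy (m := 240) hN p17 (hcard.trans h) (by norm_num) (h1 _ p17 (fact4080 hS h))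
      (c1 h p17 (by decide +kernel)) (by decide)
  · exact easy (m := 432) hN p13 (hcard.trans h) (by norm_num) (h1 _ p13 (fact5616 hS h).1)
      (c2 3 3 h p13 Nat.prime_three (by decide +kernel) (by norm_num) (fact5616 hS h).2) (by decide)

end Cfsg.Agent.Small
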