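import Cfsg.Agent.Small.A7b
import Cfsg.Agent.Small.L33
import Cfsg.Agent.Small.NonS
import Cfsg.Prelude.Def_DegreeGraph

/-!
# Simple groups of order less than `6000` are determined by their order
-/

set_option autoImplicit false

namespace Cfsg.Agent.Small

variable {G : Type*} [Group G] [Finite G] {S : Type*} [Group S] [Finite S]

theorem equiv_of_card [IsSimpleGroup G] [IsSimpleGroup S] (hG : ¬ IsMulCommutative G)
    (hS : ¬ IsMulCommutative S) (hlt : Nat.card S < 6000) (h : Nat.card G = Nat.card S) :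
    Nonempty (G ≃* S) := by
  by_cases h1 : Nat.card S = 2520
  · exact ⟨(alt7 (h.trans h1)).some.trans (alt7 h1).some.symm⟩
  by_cases h2 : Nat.card S = 5616
  · exact ⟨(psl33 (h.trans h2)).some.trans (psl33 h2).some.symm⟩
  obtain ⟨q, h3, h4⟩ := (classify hG (h ▸ hlt)).resolve_right fun e => by omega
  obtain ⟨q', h5, h6⟩ := (classify hS hlt).resolve_right fun e => by omega
  obtain rfl : q = q' :=
    (by decide : ∀ a ∈ l2, ∀ b ∈ l2, a.2 = b.2 → a.1 = b.1) _ h3 _ h5 h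
  exact h4.equiv h6

omit [Finite G] in
theorem rho_iff {d : ℕ} : Rho G d ↔ ∃ e ∈ charDegrees G, d ∣ e :=
  ⟨fun ⟨χ, h, h'⟩ => ⟨_, ⟨⟨χ, h⟩, rfl⟩, h'⟩, by rintro ⟨_, ⟨χ, rfl⟩, h⟩; exact ⟨χ.1, χ.2, h⟩⟩

end Cfsg.Agent.Small
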