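import Cfsg.Agent.Small.Class
import Cfsg.Agent.Small.S48
import Cfsg.Agent.Wong.Excl
import Cfsg.Agent.Wong.SD

/-!
# The simple group of order `2520`: the centralisers of involutions
-/

set_option autoImplicit false

namespace Cfsg.Agent.Small

open Subgroup Cfsg.Agent.M11 Cfsg.Agent.Local
open scoped Pointwise

variable {G : Type*} [Group G] [Finite G]

theorem relIndex_norm {p : ℕ} [Fact p.Prime] {P N : Subgroup G} (h : IsSylowIn p P N) :
    (normalizer (P : Set G)).relIndex N % p = 1 % p := by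
  have h4 := card_sylow_modEq_one p N
  rw [Sylow.card_eq_index_normalizer h.toSylow] at h4
  change (normalizer ((P.subgroupOf N : Subgroup N) : Set N)).index % p = 1 % p at h4
  rwa [← subgroupOf_normalizer_eq h.le] at h4

theorem syl3 {r : G} (hr : orderOf r = 3) {M : Subgroup G} (h : r ∈ M) (h9 : ¬ 9 ∣ Nat.card M) :
    IsSylowIn 3 (zpowers r) M :=
  ⟨zpowers_le_of_mem h, isPGroup_zpowers_of_orderOf_eq hr, fun e => h9 (by
    rw [← card_mul_relIndex (zpowers_le_of_mem h), Nat.card_zpowers, hr]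
    exact Nat.mul_dvd_mul_left 3 e)⟩

theorem n3_24 (hK : Nat.card G = 24) {f u r : G} (hf : orderOf f = 2 ^ (1 + 1))
    (hc : ∀ g, Commute g (f * f)) (uu : u * u = 1) (u1 : u ≠ 1) (uz : u ≠ f * f)
    (uN : u * f * u⁻¹ ∈ zpowers f) (hr : orderOf r = 3) (g : G) :
    g * r * g⁻¹ = r ∨ g * r * g⁻¹ = r⁻¹ := by
  have := Fact.mk Nat.prime_three
  have h1 : ∀ g, g⁻¹ * u * g ∉ zpowers f := fun g h => uz (by
    have := CIT.eq_of_sq_eq_one hf h (CIT.inv_conj_ne_one u1)
      (by simpa using CIT.conj_sq (g := g⁻¹) uu)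
    rw [pow_one, pow_two, mul_assoc, inv_mul_eq_iff_eq_mul, (hc g).eq] at this
    exact mul_right_cancel this)
  have h2 := zpowers_le.mp (Wong.norm_zpowers uN)
  have nb : u ∉ zpowers f := by simpa using h1 1
  obtain ⟨M, hM, -⟩ := Wong.transfer' (S := zpowers f ⊔ zpowers u) (D := zpowers f) (by
    have := (zpowers f ⊔ zpowers u).card_mul_index
    rw [Wong.card_sup2 h2 (uu ▸ one_mem _) nb, Nat.card_zpowers, hf, hK] at this
    exact ⟨1, by omega⟩) (Wong.relIndex_sup2 h2 (uu ▸ one_mem _) nb) uu h1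
  have h3 := M.card_mul_index
  have r3 : r * r * (r * r) = r := by
    rw [← pow_two, ← pow_two, ← pow_mul, pow_succ, ← hr, pow_orderOf_eq_one, one_mul]
  have h4 : r ∈ M := r3 ▸ mul_self_mem_of_index_two hM _
  rw [hM, hK] at h3
  have h5 := relIndex_norm (syl3 hr h4 (by omega))
  have h6 := relIndex_norm (syl3 hr (mem_top r) (by rw [card_top]; omega))
  have h7 := card_mul_relIndex (inf_le_right (a := normalizer (zpowers r : Set G)) (b := M))
  have h8 := orderOf_dvd_card_of_mem (mem_inf.2 ⟨le_normalizer (mem_zpowers r), h4⟩)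
  have h9 := orderOf_dvd_card_of_mem (mem_inf.2 ⟨mem_norm3
    (Or.inl (by rw [← (hc r).eq, mul_inv_cancel_right])), mul_self_mem_of_index_two hM f⟩)
  rw [← pow_two, orderOf_pow_of_dvd two_ne_zero (by rw [hf]; norm_num), hf] at h9
  rw [inf_relIndex_right] at h7
  rw [hr] at h8
  rw [relIndex_top_right] at h6
  obtain ⟨k, hk⟩ : 6 ∣ Nat.card ↥(normalizer (zpowers r : Set G) ⊓ M) := by omega
  have h10 := index_dvd_of_le (relIndex_eq_one.1 (by
    rw [hk] at h7
    rcases k with _ | _ | _ | k <;> [omega; omega; omega; nlinarith]) :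
      M ≤ normalizer (zpowers r : Set G))
  have h11 := Nat.le_of_dvd (by omega) h10
  exact norm3 hr ((index_eq_one.1 (by omega)).ge (mem_top g))

variable (G) in
structure A7H : Prop where
  card : Nat.card G = 2520
  c2 : ∀ t : G, orderOf t = 2 → cc t = 24
  c5 : ∀ x : G, orderOf x = 5 → cc x = 5
  c7 : ∀ x : G, orderOf x = 7 → cc x = 7
  one : ∀ s t : G, orderOf s = 2 → orderOf t = 2 → IsConj s t
  root : ∀ t : G, orderOf t = 2 → ∃ f, f * f = t
  sqr : ∀ t f : G, orderOf t = 2 → Commute f t → f ^ 4 = 1 → f * f = 1 ∨ f * f = t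
  n3 : ∀ t r g : G, orderOf t = 2 → orderOf r = 3 → Commute r t → Commute g t →
    g * r * g⁻¹ = r ∨ g * r * g⁻¹ = r⁻¹

theorem a7h [IsSimpleGroup G] (hG : Nat.card G = 2520) : A7H G := by
  classical
  have := Fintype.ofFinite G
  have := Fact.mk Nat.prime_two
  have := Fact.mk Nat.prime_five
  have hna := Wong.not_comm (G := G) (by rw [hG]; norm_num)
  have h := real_of hna (by rw [hG]; decide)
  rw [Real, hG] at h
  obtain ⟨hp, h1, x, T, h2⟩ := h.1 (5, 4, 1) (by decide)
  obtain ⟨hp', h1', x', T', h2'⟩ := h.1 (7, 3, 1) (by decide)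
  have c2 : ∀ t : G, orderOf t = 2 → cc t = 24 := h.2
  dsimp only at h2
  obtain ⟨f, hf⟩ : ∃ f : G, orderOf f = 2 ^ (1 + 1) := by
    have hx : PP 5 x := ⟨by norm_num, h2.ord, h1⟩
    obtain ⟨H, -, -, h3, rfl⟩ := h2.idx
    have h4 := (normalizer (zpowers x : Set G)).card_mul_index
    rw [← hx.card_norm, h2.ccx, ← h3] at h4
    have h5 : EE 5 x = Finset.univ.erase 0 := Finset.eq_of_subset_of_card_le (fun i hi =>
      Finset.mem_erase.2 ⟨fun e => hx.E0 (e ▸ hi), Finset.mem_univ _⟩) (Nat.eq_of_mul_eq_mul_left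
        (by norm_num) (Nat.eq_of_mul_eq_mul_right (Nat.pos_of_ne_zero index_ne_zero_of_finite) h4)).ge
    obtain ⟨g, hg⟩ := isConj_iff.1 (mem_EE.1
      (h5.ge (Finset.mem_erase.2 ⟨fun e => (by cases e), Finset.mem_univ (2 : ZMod 5)⟩)))
    have h6 : ∀ n, g ^ n * x * (g ^ n)⁻¹ = x ^ (2 ^ n % 5) := fun n => by
      rw [← h2.ord, pow_mod_orderOf]
      induction n with
      | zero => simp
      | succ n ih =>
        rw [pow_succ', pow_succ' 2, pow_mul, ← show _ = x ^ 2 from hg, conj_pow, ← ih]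
        group
    have h7 := orderOf_dvd_cc (mul_inv_eq_iff_eq_mul.1 ((h6 4).trans (pow_one x)))
    rw [h2.ccx, orderOf_dvd_iff_pow_eq_one, ← pow_mul] at h7
    refine ⟨g ^ 5, orderOf_eq_prime_pow (fun e => ?_) (by rwa [← pow_mul])⟩
    have h8 := h6 10
    rw [← pow_mul] at e
    rw [show g ^ 10 = 1 from e, one_mul, inv_one, mul_one] at h8
    have := pow_inj_mod.1 ((pow_one x).trans h8)
    rw [h2.ord] at this
    omega
  have hz : orderOf (f * f) = 2 := by
    rw [← pow_two, orderOf_pow_of_dvd two_ne_zero (by rw [hf]; norm_num), hf]; rfl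
  obtain ⟨P, hP⟩ := (IsPGroup.of_card ((Nat.card_zpowers f).trans hf)).exists_le_sylow
  have fP := hP (mem_zpowers f)
  have h8 := card_sylow_eq P 3 315 hG (by norm_num)
  obtain ⟨g, uP, uz⟩ := Block.exists_conj_ne_of_simple (by omega) P hz (mul_mem fP fP)
  set u := g * (f * f) * g⁻¹
  have hu : orderOf u = 2 := (Local.orderOf_conj' _ _).trans hz
  have z1 := ne_one_of_orderOf_eq_prime Nat.prime_two hz
  have u1 := ne_one_of_orderOf_eq_prime Nat.prime_two hu
  have zz := Block.mul_self_of_orderOf hz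
  have uu := Block.mul_self_of_orderOf hu
  have h3 : (zpowers f).relIndex P = 2 := by
    have := card_mul_relIndex hP
    rw [Nat.card_zpowers, hf, h8] at this
    omega
  have h4 : ∀ a ∈ zpowers f, a ≠ 1 → a * a = 1 → a = f * f := fun a ha h h' =>
    (CIT.eq_of_sq_eq_one hf ha h h').trans (pow_two f)
  have h5 : ∀ s ∈ (P : Subgroup G), s * s = 1 ∨ s * s = f * f := fun s hs =>
    or_iff_not_imp_left.2 fun h => h4 _ (mul_self_mem_of_index_two h3 ⟨s, hs⟩) h (by
      by_contra h'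
      have h6 : orderOf s = 2 ^ (2 + 1) := orderOf_eq_prime_pow
        (by simpa [pow_succ, mul_assoc] using h') (orderOf_dvd_iff_pow_eq_one.1
          (h8 ▸ orderOf_dvd_card_of_mem hs))
      have h7 : zpowers s = P := eq_of_le_of_card_ge (zpowers_le_of_mem hs)
        (by rw [Nat.card_zpowers, h6, h8])
      exact uz ((CIT.eq_of_sq_eq_one h6 (h7.ge uP) u1 uu).trans
        (CIT.eq_of_sq_eq_one h6 (h7.ge (mul_mem fP fP)) z1 zz).symm))
  have h6 : (P : Subgroup G) ≤ centralizer {f * f} := fun s hs =>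
    mem_centralizer_singleton_iff.2 (mul_inv_eq_iff_eq_mul.1 (by
      rw [← conj_mul]
      exact (h5 _ (mul_mem (mul_mem hs fP) (inv_mem hs))).resolve_left
        (by rw [conj_mul]; simpa using z1)))
  have uN : u * f * u⁻¹ ∈ zpowers f := conj_mem_of_mem_normalizer
    ((normal_subgroupOf_iff_le_normalizer hP).1 (normal_of_index_eq_two h3) uP) (mem_zpowers f)
  have one : ∀ t : G, orderOf t = 2 → ∃ φ : G ≃* G, φ (f * f) = t ∧ IsConj (f * f) t := fun t ht => by
    have := Wong.one_class (Wong.index_ne_two (by omega)) hf uN uu (fun e => uz (h4 u e u1 uu))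
      (by rw [hG]; norm_num) (ne_one_of_orderOf_eq_prime Nat.prime_two ht)
      (Block.mul_self_of_orderOf ht)
    rw [pow_one, pow_two] at this
    obtain ⟨c, hc⟩ := isConj_iff.1 this
    exact ⟨MulAut.conj c, hc, this⟩
  have mC : ∀ {g x : G}, g ∈ centralizer {x} ↔ Commute g x := mem_centralizer_singleton_iff
  refine ⟨hG, c2, fun y hy => (cc_eq_of_ord hp h1 h2.ord hy).trans h2.ccx,
    fun y hy => (cc_eq_of_ord hp' h1' h2'.ord hy).trans h2'.ccx, fun s t hs ht =>
      (one s hs).choose_spec.2.symm.trans (one t ht).choose_spec.2, fun t ht => ?_,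
    fun t a ht h7 h9 => ?_, fun t r a ht hr h7 h9 => ?_⟩ <;> obtain ⟨φ, rfl, -⟩ := one t ht
  · exact ⟨φ f, (map_mul φ f f).symm⟩
  · obtain ⟨a, rfl⟩ := φ.surjective a
    rw [← map_mul, φ.map_eq_one_iff, φ.apply_eq_iff_eq]
    rw [← map_pow, φ.map_eq_one_iff] at h9
    obtain ⟨n, hn, h10⟩ := ((isSylowIn_top P).of_le h6 le_top).exists_le_conj
      (Q := zpowers a) (IsPGroup.iff_card.2 (by
        rw [Nat.card_zpowers]
        exact ((Nat.dvd_prime_pow Nat.prime_two (m := 2)).1 (orderOf_dvd_of_pow_eq_one h9)).imp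
          fun _ h => h.2)) (zpowers_le_of_mem (mC.2 (h7.of_map φ.injective)))
    obtain ⟨b, hb, rfl⟩ := h10 (mem_zpowers a)
    change n * b * n⁻¹ * (n * b * n⁻¹) = 1 ∨ n * b * n⁻¹ * (n * b * n⁻¹) = f * f
    rw [conj_mul]
    rcases h5 b hb with e | e <;> rw [e]
    · simp
    · exact Or.inr (by rw [(mC.1 hn).eq, mul_inv_cancel_right])
  · obtain ⟨a, rfl⟩ := φ.surjective a
    obtain ⟨r, rfl⟩ := φ.surjective r
    rw [φ.orderOf_eq] at hr
    simp only [← map_mul, ← map_inv, φ.apply_eq_iff_eq]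
    exact (n3_24 (G := centralizer ({f * f} : Set G)) (c2 _ hz) (f := ⟨f, h6 fP⟩) (u := ⟨u, h6 uP⟩)
      (r := ⟨r, mC.2 (h7.of_map φ.injective)⟩) ((orderOf_mk _ _).trans hf)
      (fun g => Subtype.ext (mC.1 g.2)) (Subtype.ext uu) (fun e => u1 (congrArg Subtype.val e))
      (fun e => uz (congrArg Subtype.val e)) (by
        obtain ⟨k, hk⟩ := uN
        exact ⟨k, Subtype.ext hk⟩) ((orderOf_mk _ _).trans hr)
      ⟨a, mC.2 (h9.of_map φ.injective)⟩).imp (congrArg Subtype.val) (congrArg Subtype.val)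

end Cfsg.Agent.Small
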