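import Cfsg.Agent.Small.A7a
import Cfsg.Agent.Pres.Alt

/-!
# The simple group of order `2520`
-/

set_option autoImplicit false

namespace Cfsg.Agent.Small

open Subgroup Cfsg.Agent.M11 Cfsg.Agent.Local
open scoped Pointwise

variable {G : Type*} [Group G] [Finite G]

omit [Finite G] in
theorem cox3 {a b d : G} (aa : a * a = 1) (bb : b * b = 1) (dd : d * d = 1) (bd : Commute b d)
    (h1 : (a * b) ^ 3 = 1) (h2 : (a * d) ^ 3 = 1) (h3 : (a * (b * d)) ^ 3 = 1) : d = 1 := by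
  have k : ∀ {x : G}, x * x = 1 → ∀ g, x * (x * g) = g := fun h g => by rw [← mul_assoc, h, one_mul]
  have br : ∀ {b : G}, b * b = 1 → (a * b) ^ 3 = 1 → ∀ g, a * (b * (a * g)) = b * (a * (b * g)) :=
    fun {b} bb h g => by
      rw [← one_mul (b * (a * (b * g))), ← h]
      simp only [pow_succ, pow_zero, one_mul, mul_assoc, k aa, k bb]
  have c : ∀ g, d * (b * g) = b * (d * g) := fun g => by rw [← mul_assoc, ← bd.eq, mul_assoc]
  have h4 : (a * (b * d)) ^ 4 = 1 := by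
    have : a * (b * (d * (a * (b * d)))) = b * (d * (a * (b * (d * a)))) := by
      calc _ = a * (b * (d * (a * (d * b)))) := by rw [bd.eq]
        _ = b * (a * (b * (d * (a * b)))) := by rw [← br dd h2, br bb h1]
        _ = b * (a * (d * (a * (b * a)))) := by
          rw [← c, ← mul_one (a * b), mul_assoc a b, ← br bb h1, mul_one]
        _ = _ := by
          rw [br dd h2, c]
    simp only [pow_succ, pow_zero, one_mul, mul_assoc]
    rw [this]
    simp only [k aa, c, k bb, k dd, aa]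
  rw [pow_succ, h3, one_mul] at h4
  obtain rfl : a = b * d := by
    rw [eq_inv_of_mul_eq_one_left h4, mul_inv_rev, inv_eq_of_mul_eq_one_right bb,
      inv_eq_of_mul_eq_one_right dd, bd.eq]
  rwa [bd.eq, mul_assoc, bb, mul_one, pow_three, k dd] at h1

/-- the involutions commuting with `y` -/
structure II (y t : G) : Prop where
  ord : orderOf t = 2
  com : Commute t y

omit [Finite G] in
theorem mem_II {t y : G} (h : t * t = 1) (h1 : t ≠ 1) (hc : Commute t y) : II y t :=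
  ⟨orderOf_eq_prime (by rwa [pow_two]) h1, hc⟩

omit [Finite G] in
theorem II.one {t y : G} (h : II y t) : t ≠ 1 := ne_one_of_orderOf_eq_prime Nat.prime_two h.1

omit [Finite G] in
theorem II.mul {t y : G} (h : II y t) : t * t = 1 := Block.mul_self_of_orderOf h.1

omit [Finite G] in
theorem II.conj {t y g : G} (h : II y t) (hg : g * y * g⁻¹ = y ∨ g * y * g⁻¹ = y⁻¹) :
    II y (g * t * g⁻¹) := ⟨(Local.orderOf_conj' _ _).trans h.1, by
  have h1 : Commute (g * t * g⁻¹) (g * y * g⁻¹) := h.2.map (MulAut.conj g)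
  rcases hg with e | e <;> rw [e] at h1
  exacts [h1, Commute.inv_right_iff.1 h1]⟩

namespace A7H

variable (h : A7H G)
include h

theorem mem3 {t r w : G} (ht : II r t) (hr : orderOf r = 3) (hw : orderOf w = 3)
    (hc : Commute w t) : w ∈ zpowers r :=
  have := Fact.mk Nat.prime_three
  (syl3 hr (M := centralizer {t}) (mem_centralizer_singleton_iff.2 ht.2.symm)
    (by rw [← cc, h.c2 t ht.1]; norm_num)).le_of_le_normalizer' (isPGroup_zpowers_of_orderOf_eq hw)
    (zpowers_le_of_mem (mem_centralizer_singleton_iff.2 hc))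
    (zpowers_le_of_mem (mem_norm3 (h.n3 t r w ht.1 hr ht.2.symm hc))) (mem_zpowers w)

theorem dvd72 {H : Subgroup G} {X : Set G} (hX : ∀ g ∈ H, ∀ u ∈ X, g * u * g⁻¹ ∈ X)
    (h3 : ∀ u ∈ X, 3 ∣ orderOf u) (h5 : ¬ 5 ∣ X.ncard) (h7 : ¬ 7 ∣ X.ncard) : Nat.card H ∣ 72 := by
  have h1 : ∀ p, p.Prime → (∀ x : G, orderOf x = p → cc x = p) → ¬ 3 ∣ p → ¬ p ∣ X.ncard →
      (Nat.card H).Coprime p := fun p hp hc h1 h2 => (hp.coprime_iff_not_dvd.2 fun e => by
    obtain ⟨x, hx, h4⟩ := exists_mem_orderOf_eq_of_dvd_card hp e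
    obtain ⟨u, hu, h6⟩ := exists_commute_of_not_dvd hp (h4 ▸ pow_orderOf_eq_one x) (hX x hx) h2
    exact h1 ((h3 u hu).trans (hc x h4 ▸ orderOf_dvd_cc h6.symm))).symm
  exact ((h1 5 Nat.prime_five h.c5 (by norm_num) h5).mul_right
    (h1 7 (by norm_num) h.c7 (by norm_num) h7)).dvd_of_dvd_mul_left
    (h.card ▸ card_subgroup_dvd_card H :)

theorem exists_syl {y : G} (hy : orderOf y = 3) : ∃ P : Sylow 3 G, y ∈ P ∧
    Nat.card (P : Subgroup G) = 9 ∧ ∀ w ∈ (P : Subgroup G), Commute w y := by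
  have := Fact.mk Nat.prime_three
  obtain ⟨P, hP⟩ := exists_sylow_mem hy
  have h9 := card_sylow_eq P 2 280 h.card (by norm_num)
  exact ⟨P, hP, h9, fun w hw => comm_of_card_nine h9 hw hP⟩

variable {t y : G} (hy : orderOf y = 3) (ht : II y t)
include hy ht

theorem le_norm : centralizer {t} ≤ normalizer (zpowers y : Set G) := fun g hg =>
  mem_norm3 (h.n3 t y g ht.1 hy ht.2.symm (mem_centralizer_singleton_iff.1 hg))

theorem cardN : Nat.card (normalizer (zpowers y : Set G)) = 72 := by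
  have h1 : Nat.card (normalizer (zpowers y : Set G)) ∣ 72 := h.dvd72 (X := {y, y⁻¹})
    (fun g hg u hu => by
      rcases hu with rfl | rfl
      · exact norm3 hy hg
      · rw [← conj_inv]
        exact (norm3 hy hg).symm.imp (fun e => by rw [e, inv_inv]) (congrArg _))
    (by rintro _ (rfl | rfl) <;> simp [hy]) (by rw [Set.ncard_pair (ne_inv3 hy)]; norm_num)
    (by rw [Set.ncard_pair (ne_inv3 hy)]; norm_num)
  have h2 := card_dvd_of_le (h.le_norm hy ht)
  obtain ⟨P, -, h3, h4⟩ := h.exists_syl hy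
  have h5 := card_dvd_of_le (H := P) (K := normalizer (zpowers y : Set G)) fun w hw => mem_norm3 (Or.inl (by
    rw [(h4 w hw).eq, mul_inv_cancel_right]))
  rw [← cc, h.c2 t ht.1] at h2
  rw [h3] at h5
  have := Nat.le_of_dvd (by norm_num) h1
  have : 0 < Nat.card (normalizer (zpowers y : Set G)) := Nat.card_pos
  omega

theorem ncard_II : {t | II y t}.ncard = 3 := by
  have h1 := card_inf_centralizer_mul (normalizer (zpowers y : Set G)) t
  rw [inf_eq_right.2 (h.le_norm hy ht), ← cc, h.c2 t ht.1, h.cardN hy ht,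
    show {w | ∃ r ∈ normalizer (zpowers y : Set G), r * t * r⁻¹ = w} = {t | II y t} from Set.ext fun w =>
      ⟨by rintro ⟨g, hg, rfl⟩; exact ht.conj (norm3 hy hg), fun hw => by
        obtain ⟨g, rfl⟩ := isConj_iff.1 (h.one t w ht.1 hw.1)
        have h2 : orderOf (g⁻¹ * y * g⁻¹⁻¹) = 3 := (Local.orderOf_conj' _ _).trans hy
        refine ⟨g, inv_mem_iff.1 (mem_norm3 ((mem_zp3 hy (h.mem3 ht hy h2 ?_)).resolve_left
          (ne_one_of_orderOf_eq_prime Nat.prime_three h2))), rfl⟩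
        simpa [mul_assoc] using hw.2.symm.map (MulAut.conj g⁻¹)⟩] at h1
  omega

theorem third {a : G} (ha : II y a) (hat : a ≠ t) :
    Commute t a ∧ ∀ c, II y c → c = t ∨ c = a ∨ c = t * a := by
  obtain ⟨b, hb⟩ : ∃ b, ({t | II y t} \ {t}) \ {a} = {b} := Set.ncard_eq_one.1 (by
    rw [Set.ncard_sdiff_singleton_of_mem (s := {t | II y t} \ {t}) ⟨ha, hat⟩,
      Set.ncard_sdiff_singleton_of_mem (s := {t | II y t}) ht, h.ncard_II hy ht])
  have h1 : ∀ c, II y c → c ≠ t → c ≠ a → c = b := fun c hc h1 h2 => hb.le ⟨⟨hc, h1⟩, h2⟩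
  obtain ⟨f, rfl⟩ := h.root t ht.1
  have hf := h.n3 _ y f ht.1 hy ht.2.symm ((Commute.refl f).mul_right (Commute.refl f))
  have h2 : ∀ c : G, c ≠ f * f → f * c * f⁻¹ ≠ f * f := fun c hc e => hc (by
    rwa [mul_inv_eq_iff_eq_mul, mul_assoc, mul_right_inj] at e)
  have h3 : f * a * f⁻¹ ≠ a := fun e => (h.sqr a f ha.1 (mul_inv_eq_iff_eq_mul.1 e)
    (by simpa [pow_succ, mul_assoc] using ht.mul)).elim ht.one hat.symm
  have h4 : Commute (f * f) a := by
    by_contra e
    exact h3 (conj_injective ((h1 _ ((ha.conj hf).conj hf) (h2 _ (h2 _ hat)) fun e' => e (by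
      rw [Commute, SemiconjBy, ← mul_inv_eq_iff_eq_mul]; nth_rw 2 [← e']; group)).trans
      (h1 _ (ha.conj hf) (h2 _ hat) h3).symm))
  refine ⟨h4, fun c hc => or_iff_not_imp_left.2 fun e => or_iff_not_imp_left.2 fun e' =>
    (h1 c hc e e').trans (h1 _ (mem_II ?_ (fun e => hat ?_) (ht.2.mul_left ha.2))
      (by simpa using ha.one) (by simpa using ht.one)).symm⟩
  · rw [h4.symm.mul_mul_mul_comm, ht.mul, ha.mul, one_mul]
  · rw [← inv_eq_of_mul_eq_one_right e, inv_eq_of_mul_eq_one_right ht.mul]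

theorem comm {a : G} (ha : II y a) : Commute t a := by
  by_cases e : a = t
  exacts [e ▸ Commute.refl a, (h.third hy ht ha e).1]

theorem swap {a g : G} (ha : II y a) (hat : a ≠ t) (hg : Commute g t) :
    g * a * g⁻¹ = a ∨ g * a * g⁻¹ = t * a :=
  ((h.third hy ht ha hat).2 _ (ha.conj (h.n3 t y g ht.1 hy ht.2.symm hg))).resolve_left fun e =>
    hat (by rwa [mul_inv_eq_iff_eq_mul, ← hg.eq, mul_right_inj] at e)

omit ht in
theorem n4 {f : G} (hf : f ^ 4 = 1) (hc : Commute f y) : f * f = 1 := by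
  by_contra h1
  have ht : II y (f * f) := mem_II (by simpa [pow_succ, mul_assoc] using hf) h1 (hc.mul_left hc)
  obtain ⟨a, ha : II y a, hat⟩ := Set.exists_ne_of_one_lt_ncard (s := {t | II y t})
    (by rw [h.ncard_II hy ht]; norm_num) (f * f)
  have h2 := (h.swap hy ht ha hat ((Commute.refl f).mul_right (Commute.refl f))).resolve_left
    fun e => (h.sqr a f ha.1 (mul_inv_eq_iff_eq_mul.1 e) hf).elim h1 hat.symm
  obtain ⟨h3, h4⟩ := h.third hy ht ha hat
  have h5 : a * f * (a * f) = 1 := by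
    calc _ = a * (f * a * f⁻¹) * (f * f) := by group
      _ = 1 := by rw [h2, h3.eq, ← mul_assoc a a, ha.mul, one_mul, ht.mul]
  have h6 : f = a * (a * f) := by rw [← mul_assoc, ha.mul, one_mul]
  refine h1 ?_
  by_cases h7 : a * f = 1
  · rw [h6, h7, mul_one, ha.mul]
  have h8 := mem_II h5 h7 (ha.2.mul_left hc)
  rw [h6, (h.comm hy h8 ha).mul_mul_mul_comm, ha.mul, h5, one_mul]

theorem six {w : G} (h1 : Commute w t) (h2 : Commute w y) : w ^ 3 * w ^ 3 = 1 := by
  have h3 := orderOf_dvd_cc h1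
  rw [h.c2 t ht.1, orderOf_dvd_iff_pow_eq_one] at h3
  refine h.n4 hy ?_ (h2.pow_left 3)
  have := h.n4 hy (f := w ^ 6) (by rwa [← pow_mul]) (h2.pow_left 6)
  rwa [← pow_add, show 6 + 6 = 3 * 4 from rfl, pow_mul] at this

theorem f2 {a b : G} (aa : a * a = 1) (bb : b * b = 1) (ha : Commute a t) (hb : Commute b t)
    (ay : a * y * a⁻¹ = y⁻¹) (hby : b * y * b⁻¹ = y⁻¹) : (a * b) ^ 3 = 1 ∨ (a * b) ^ 3 = t := by
  have h0 : ∀ {a b : G}, a * y * a⁻¹ = y⁻¹ → b * y * b⁻¹ = y⁻¹ → Commute (a * b) y :=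
    fun {a b} ha hb => mul_inv_eq_iff_eq_mul.1 (by
      calc _ = a * (b * y * b⁻¹) * a⁻¹ := by group
        _ = y := by rw [hb, ← conj_inv, ha, inv_inv])
  by_contra! h1
  have h2 := h.six hy ht (ha.mul_left hb) (h0 ay hby)
  have hc := mem_II h2 h1.1 ((h0 ay hby).pow_left 3)
  have h3 : a * (a * b) ^ 3 * a⁻¹ = (a * b) ^ 3 := by
    rw [← conj_pow, ← mul_assoc, aa, one_mul, ← inv_eq_of_mul_eq_one_right bb, ← mul_inv_rev,
      inv_eq_of_mul_eq_one_right bb, inv_pow, inv_eq_of_mul_eq_one_right h2]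
  obtain ⟨f, hf⟩ := h.root t ht.1
  have h4 : Commute f t := hf ▸ (Commute.refl f).mul_right (Commute.refl f)
  have h5 : f ^ 4 = 1 := by simpa [← hf, pow_succ, mul_assoc] using ht.mul
  have h6 := (h.n3 t y f ht.1 hy ht.2.symm h4).resolve_left fun e =>
    ht.one (hf ▸ h.n4 hy h5 (mul_inv_eq_iff_eq_mul.1 e))
  set c := (a * b) ^ 3
  have h7 : Commute (f * a) c := by
    have h7 := h.six hy ht (h4.mul_left ha) (h0 h6 ay)
    have h8 : Commute ((f * a) ^ 3) c := by
      by_cases e : (f * a) ^ 3 = 1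
      exacts [e ▸ Commute.one_left c, h.comm hy (mem_II h7 e ((h0 h6 ay).pow_left 3)) hc]
    have h9 : Commute ((f * a) ^ 2) c := mul_inv_eq_iff_eq_mul.1 (by
      rcases h.swap hy ht hc h1.2 (h4.mul_left ha) with e | e
      · calc _ = f * a * (f * a * c * (f * a)⁻¹) * (f * a)⁻¹ := by rw [pow_two]; group
          _ = c := by rw [e, e]
      · calc _ = f * a * (f * a * c * (f * a)⁻¹) * (f * a)⁻¹ := by rw [pow_two]; group
          _ = t * (f * a * c * (f * a)⁻¹) := by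
            rw [e, ← mul_assoc, (h4.mul_left ha).eq, ← e]; group
          _ = c := by rw [e, ← mul_assoc, ht.mul, one_mul])
    have := h9.inv_left.mul_left h8
    rwa [pow_succ _ 2, inv_mul_cancel_left] at this
  exact (h.sqr c f hc.1 (by simpa using h7.mul_left (Commute.inv_left (mul_inv_eq_iff_eq_mul.1 h3)))
    h5).elim (hf ▸ ht.one) (hf ▸ h1.2.symm)

theorem cyc {w : G} (hw : orderOf w = 3) (hc : Commute w y) (hn : w ∉ zpowers y) :
    w⁻¹ * t * w = t * (w * t * w⁻¹) ∧ (w * t) ^ 3 = 1 := by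
  have h1 : ∀ t, II y t → w * t * w⁻¹ ≠ t := fun t ht e =>
    hn (h.mem3 ht hy hw (mul_inv_eq_iff_eq_mul.1 e))
  have h2 := ht.conj (g := w) (Or.inl (mul_inv_eq_iff_eq_mul.2 hc))
  have h3 := ht.conj (g := w⁻¹) (Or.inl (mul_inv_eq_iff_eq_mul.2 hc.inv_left))
  have w3 : w ^ 3 = 1 := hw ▸ pow_orderOf_eq_one w
  have h4 : w⁻¹ = w * w := (eq_inv_of_mul_eq_one_left (by rwa [← pow_three'])).symm
  have h5 : w * (w * t * w⁻¹) * w⁻¹ = w⁻¹ * t * w⁻¹⁻¹ := by
    rw [inv_inv, mul_assoc, mul_assoc, ← mul_inv_rev, ← h4, inv_inv, h4]; group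
  obtain ⟨h6, h7⟩ := h.third hy ht h2 (h1 t ht)
  have h8 := ((h7 _ h3).resolve_left fun e => h1 _ h3 (by nth_rw 2 [e]; group)).resolve_left
    (h5 ▸ h1 _ h2)
  rw [inv_inv] at h8
  refine ⟨h8, ?_⟩
  calc _ = w * t * w⁻¹ * (w * w * t * w) * t := by rw [pow_three]; group
    _ = 1 := by rw [← h4, h8, h6.eq, ← mul_assoc, h2.mul, one_mul, ht.mul]

theorem not_norm {w : G} (hw : orderOf w = 3) (hc : Commute w y) (hn : w ∉ zpowers y) :
    ¬ (t * w * t⁻¹ = w ∨ t * w * t⁻¹ = w⁻¹) := by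
  rintro (e | e)
  · exact hn (h.mem3 ht hy hw (mul_inv_eq_iff_eq_mul.1 e).symm)
  have h1 := (h.cyc hy ht hw hc hn).2
  rw [inv_eq_of_mul_eq_one_right ht.mul] at e
  rw [pow_three', show w * t * (w * t) = 1 by rw [mul_assoc, ← mul_assoc t, e, mul_inv_cancel],
    one_mul] at h1
  rw [eq_inv_of_mul_eq_one_left h1, orderOf_inv, ht.ord] at hw
  omega

theorem inverts {s r : G} (hr : orderOf r = 3) (hs : II r s) (h1 : s * y * s⁻¹ = y⁻¹)
    (h2 : Commute t s) : t * r * t⁻¹ = r⁻¹ :=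
  (h.n3 s r t hs.1 hr hs.2.symm h2).resolve_left fun e => ne_inv3 hy (by
    have h3 : Commute s y := by
      rcases mem_zp3 hy (h.mem3 ht hy hr (mul_inv_eq_iff_eq_mul.1 e).symm) with rfl | rfl | rfl
      exacts [absurd hr (by simp), hs.2, Commute.inv_right_iff.1 hs.2]
    rw [← h1, h3.eq, mul_inv_cancel_right])

theorem exists_fix {e : G} (ee : e * e = 1) (h1 : e * y * e⁻¹ = y⁻¹) : ∃ a, II y a ∧ Commute e a :=
  exists_commute_of_not_dvd Nat.prime_two (by rwa [pow_two]) (X := {t | II y t})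
    (fun _ hu => II.conj hu (Or.inr h1)) (by rw [h.ncard_II hy ht]; norm_num)

theorem f4 [IsSimpleGroup G] : ∃ x e s : G, orderOf x = 3 ∧ II x s ∧ Commute x y ∧ x ∉ zpowers y ∧
    y ∉ zpowers x ∧ e * e = 1 ∧ e * y * e⁻¹ = y⁻¹ ∧ e * x * e⁻¹ = x⁻¹ := by
  have := Fact.mk Nat.prime_three
  obtain ⟨P, yP, h9, hc⟩ := h.exists_syl hy
  have h0 : (((P : Subgroup G) : Set G) \ {1}).ncard = 8 := by
    rw [Set.ncard_sdiff_singleton_of_mem (one_mem (P : Subgroup G)), ← Nat.card_coe_set_eq]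
    exact congrArg (· - 1) h9
  set N := normalizer ((P : Subgroup G) : Set G) with hN
  set H := normalizer (zpowers y : Set G) with hH
  have h1 : Nat.card N ∣ 72 := h.dvd72 (X := ((P : Subgroup G) : Set G) \ {1})
    (fun g hg u hu => ⟨conj_mem_of_mem_normalizer hg hu.1, by simpa using hu.2⟩)
    (fun u hu => by
      obtain ⟨k, -, hk⟩ := (Nat.dvd_prime_pow Nat.prime_three (m := 2)).1
        (h9 ▸ orderOf_dvd_card_of_mem hu.1 :)
      rcases k with _ | k
      exacts [absurd (orderOf_eq_one_iff.1 hk) hu.2, hk ▸ dvd_pow_self 3 k.succ_ne_zero])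
    (by omega) (by omega)
  have h2 := card_normalizer_mul P
  have h3 := card_sylow_modEq_one 3 G
  have h4 : Nat.card N ≠ 9 := fun e => Perm2.not_normalizer_le_centralizer_of_simple
    (Wong.not_comm (by rw [h.card]; norm_num)) P (fun e => by simp [e] at h9)
    ((eq_of_le_of_card_ge le_normalizer (e.trans h9.symm).le).ge.trans fun a ha b hb =>
      comm_of_card_nine h9 hb ha)
  have PH : (P : Subgroup G) ≤ H := fun w hw => mem_norm3 (Or.inl (by
    rw [(hc w hw).eq, mul_inv_cancel_right]))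
  have h5 := card_dvd_of_le (le_inf le_normalizer PH)
  have h6 := card_dvd_of_le (inf_le_left (a := N) (b := H))
  have h7 := card_mul_relIndex (inf_le_right (a := N) (b := H))
  have h8 := relIndex_norm ((isSylowIn_top P).of_le PH le_top)
  have h10 := card_mul_relIndex (inf_le_left (a := N) (b := H))
  rw [inf_relIndex_right, h.cardN hy ht] at h7
  rw [h.card, ← hN] at h2
  rw [h9, ← hN] at h5
  rw [← hN] at h8
  rw [Nat.ModEq] at h3
  obtain ⟨k, hk⟩ := h5.trans h6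
  have h11 : Nat.card N = 36 := by
    have := Nat.le_of_dvd (by norm_num) h1
    rw [hk] at h1 h2 h4 this ⊢
    have : k ≤ 8 := by omega
    interval_cases k <;> omega
  have h12 : Nat.card ↥(N ⊓ H) = 18 := by
    obtain ⟨k, hk⟩ := h5
    rw [h11] at h6
    have := Nat.le_of_dvd (by norm_num) h6
    rw [hk] at h6 h7 this ⊢
    have : k ≤ 4 := by omega
    interval_cases k <;> omega
  obtain ⟨g, gN, gH⟩ : ∃ g ∈ N, g ∉ H := SetLike.not_le_iff_exists.1 fun e => by
    rw [inf_eq_left.2 e] at h12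
    omega
  obtain ⟨e, he, e2⟩ := exists_mem_orderOf_eq_of_dvd_card (H := N ⊓ H) Nat.prime_two (by omega)
  have hx : orderOf (g * y * g⁻¹) = 3 := (Local.orderOf_conj' _ _).trans hy
  have h13 : g * y * g⁻¹ ∉ zpowers y := fun e => gH (mem_norm3 ((mem_zp3 hy e).resolve_left
    (ne_one_of_orderOf_eq_prime Nat.prime_three hx)))
  have h14 : y ∉ zpowers (g * y * g⁻¹) := fun e => h13 (by
    rcases mem_zp3 hx e with e | e | e
    exacts [absurd e (ne_one_of_orderOf_eq_prime Nat.prime_three hy), e ▸ mem_zpowers y,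
      inv_mem_iff.1 (e ▸ mem_zpowers y)])
  have h15 := hc _ (conj_mem_of_mem_normalizer gN yP)
  have h16 := norm3 hy he.2
  have h17 : e * (g * y * g⁻¹) * e⁻¹ = g * y * g⁻¹ ∨ e * (g * y * g⁻¹) * e⁻¹ = (g * y * g⁻¹)⁻¹ := by
    have h17 := norm3 hy (conj_mem_of_mem_normalizer ((normal_subgroupOf_iff_le_normalizer
      inf_le_left).1 (normal_of_index_eq_two (by rw [h11, h12] at h10; change relIndex _ _ = 2; omega))
      (inv_mem gN)) he).2
    rw [show e * (g * y * g⁻¹) * e⁻¹ = g * (g⁻¹ * e * g⁻¹⁻¹ * y * (g⁻¹ * e * g⁻¹⁻¹)⁻¹) * g⁻¹ by group,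
      show (g * y * g⁻¹)⁻¹ = g * y⁻¹ * g⁻¹ from conj_inv]
    exact h17.imp (fun e => by rw [e]) fun e => by rw [e]
  exact ⟨_, e, g * t * g⁻¹, hx, ⟨(Local.orderOf_conj' _ _).trans ht.1, ht.2.map (MulAut.conj g)⟩, h15,
    h13, h14, Block.mul_self_of_orderOf e2, h16.resolve_left fun h' =>
      h.not_norm hy ⟨e2, mul_inv_eq_iff_eq_mul.1 h'⟩ hx h15 h13 h17, h17.resolve_left fun h' =>
      h.not_norm hx ⟨e2, mul_inv_eq_iff_eq_mul.1 h'⟩ hy h15.symm h14 h16⟩

end A7H

theorem alt7 [IsSimpleGroup G] (hG : Nat.card G = 2520) :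
    Nonempty (G ≃* alternatingGroup (Fin 7)) := by
  have h := a7h hG
  have h0 : ∀ t : G, orderOf t = 2 → ∃ y, orderOf y = 3 ∧ II y t := fun t ht =>
    (exists_of_prime_dvd_cc Nat.prime_three (by rw [h.c2 t ht]; norm_num)).imp
      fun y hy => ⟨hy.1, ht, hy.2.symm⟩
  obtain ⟨t, ht, -⟩ := exists_two_central (G := G) (by rw [hG]; norm_num)
  obtain ⟨y, hy, ht⟩ := h0 t ht
  obtain ⟨x, e, s, hx, hs, xy, h1, h2, ee, ey, ex⟩ := h.f4 hy ht
  have h3 : ∀ {u v : G}, u * u = 1 → u * v * u⁻¹ = v⁻¹ → (v * u) ^ 2 = 1 := fun {u v} hu e => by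
    rw [pow_two, mul_assoc, ← mul_assoc u, ← inv_eq_of_mul_eq_one_right hu, ← mul_assoc,
      inv_eq_of_mul_eq_one_right hu, ← inv_eq_of_mul_eq_one_right hu, mul_assoc,
      inv_eq_of_mul_eq_one_right hu]
    nth_rw 2 [← inv_eq_of_mul_eq_one_right hu]
    rw [e, mul_inv_cancel]
  have h4 : ∀ {u v w : G}, u * v * u⁻¹ = v⁻¹ → Commute w v → u * w * v * (u * w)⁻¹ = v⁻¹ :=
    fun {u v w} e hc => by rw [← e, mul_assoc u, hc.eq]; group
  have h5 : ∀ {u v : G}, u * u = 1 → v * v = 1 → Commute u v → (u * v) ^ 2 = 1 := fun hu hv hc => by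
    rw [hc.mul_pow, pow_two, pow_two, hu, hv, one_mul]
  have ff : e * y * (e * y) = 1 := (pow_two _).symm.trans (Pres.pow_swap_eq_one (h3 ee ey))
  have fy := h4 ey (Commute.refl y)
  have fx := h4 ex xy.symm
  obtain ⟨a, ha, ea⟩ := h.exists_fix hy ht ee ey
  obtain ⟨b, hb, fb⟩ := h.exists_fix hx hs ff fx
  have af : Commute a (e * y) := ea.symm.mul_right ha.2
  obtain ⟨r, hr, hf⟩ := h0 (e * y) (orderOf_eq_prime (by rwa [pow_two]) fun e' =>
    ne_inv3 hx (by simpa [e'] using fx))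
  have h6 : (a * b) ^ 3 = e * y := (h.f2 hr hf ha.mul hb.mul af fb.symm (h.inverts hy ha hr hf fy af)
      (h.inverts hx hb hr hf fx fb.symm)).resolve_left fun h6 => by
    have hd := hb.conj (g := y) (Or.inl (mul_inv_eq_iff_eq_mul.2 xy.symm))
    have h7 : ∀ g, Commute g a → (a * (g * b * g⁻¹)) ^ 3 = 1 := fun g hg => by
      rw [← mul_assoc, ← mul_assoc, ← hg.eq, mul_assoc g, conj_pow, h6, mul_one, mul_inv_cancel]
    refine hd.one (cox3 ha.mul hb.mul hd.mul (h.comm hx hb hd) h6 (h7 y ha.2.symm) ?_)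
    rw [← (h.cyc hx hb hy xy.symm h2).1]
    simpa using h7 y⁻¹ ha.2.symm.inv_left
  have y3 : y ^ 3 = 1 := hy ▸ pow_orderOf_eq_one y
  have h7 := h5 ff hb.mul fb
  refine (Pres.exists_hom_alt 5 ![x, a, e * y * b, e, e * y] ⟨fun i hi => ?_, fun i hi => ?_,
    fun i j hi => ?_, fun i j hi => ?_⟩).elim fun φ hφ => ?_
  rotate_right
  · have := alternatingGroup.isSimpleGroup (α := Fin 7) (by simp)
    refine ⟨(MulEquiv.ofBijective φ ((Nat.bijective_iff_injective_and_card _).2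
      ⟨(MonoidHom.ker_eq_bot_iff φ).1 (φ.normal_ker.eq_bot_or_eq_top.resolve_right fun e =>
        ne_one_of_orderOf_eq_prime Nat.prime_three hx ((hφ 0).symm.trans (e.ge (mem_top _)))), ?_⟩)).symm⟩
    rw [hG, nat_card_alternatingGroup, Nat.card_fin]
    rfl
  · obtain rfl : i = 0 := Fin.ext hi
    exact (hx ▸ pow_orderOf_eq_one x : x ^ 3 = 1)
  · fin_cases i
    exacts [absurd hi (by simp), (pow_two _).trans ha.mul, h7, (pow_two _).trans ee,
      (pow_two _).trans ff]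
  · fin_cases i <;> fin_cases j <;> first | exact absurd hi (by decide) | skip
    · exact (h.cyc hy ha hx xy h1).2
    · change (a * (e * y * b)) ^ 3 = 1
      rw [← mul_assoc, af.eq, mul_assoc, (af.symm.mul_right fb).mul_pow, h6, ← pow_succ,
        show 3 + 1 = 2 * 2 from rfl, pow_mul, pow_two (e * y), ff, one_pow]
    · change (e * y * b * e) ^ 3 = 1
      rw [fb.eq, mul_assoc, ← inv_eq_of_mul_eq_one_right ee, inv_eq_of_mul_eq_one_right ee]
      nth_rw 2 [← inv_eq_of_mul_eq_one_right ee]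
      rw [ey]
      exact Pres.pow_swap_eq_one (h.cyc hx hb ((orderOf_inv y).trans hy) xy.symm.inv_left
        (by simpa using h2)).2
    · change (e * (e * y)) ^ 3 = 1
      rw [← mul_assoc, ee, one_mul, y3]
  · fin_cases i <;> fin_cases j <;> first | exact absurd hi (by decide) | skip
    · exact h3 ((pow_two _).symm.trans h7) (h4 fx hb.2)
    · exact h3 ee ex
    · exact h3 ff fx
    · exact h5 ha.mul ee ea.symm
    · exact h5 ha.mul ff af
    · exact h5 ((pow_two _).symm.trans h7) ff ((Commute.refl _).mul_left fb.symm)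

end Cfsg.Agent.Small
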