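import Cfsg.Agent.Small.Sieve

/-!
# Certificates for the sieve
-/

set_option autoImplicit false
set_option maxRecDepth 100000

namespace Cfsg.Agent.Small

def cert2 : List Cert := [
  (972, (0, 0), [], []),
  (984, (0, 0), [41], []),
  (996, (0, 0), [3], []),
  (1008, (0, 0), [7], [((7, 2, 2), 16, false), ((7, 2, 2), 48, false)]),
  (1020, (0, 0), [17], []),
  (1032, (0, 0), [43], []),
  (1044, (0, 0), [29], []),
  (1056, (0, 0), [11], [((11, 2, 4), 32, false)]),
  (1068, (0, 0), [3], []),
  (1080, (0, 0), [5], [((5, 2, 3), 8, false), ((5, 2, 3), 24, false), ((5, 2, 3), 72, false)]),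
  (1092, (0, 0), [3, 7, 13], [((3, 2, 2), 4, false), ((13, 2, 3), 12, false)]),
  (1104, (0, 0), [23], [((23, 2, 1), 16, false)]),
  (1116, (0, 0), [31], []),
  (1128, (0, 0), [47], []),
  (1140, (0, 0), [5], []),
  (1152, (0, 0), [], []),
  (1164, (0, 0), [3], []),
  (1176, (7, 2), [], []),
  (1188, (0, 0), [11], []),
  (1200, (5, 2), [], []),
  (1212, (0, 0), [3], []),
  (1224, (0, 0), [17], [((17, 2, 2), 68, false), ((17, 4, 1), 8, false), ((17, 4, 1), 24, false)]),
  (1236, (0, 0), [3], []),
  (1248, (0, 0), [13], []),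
  (1260, (0, 0), [7], [((7, 2, 6), 28, false), ((7, 2, 6), 84, false), ((7, 3, 4), 28, false), ((7, 3, 4), 84, false), ((7, 6, 2), 28, false), ((7, 6, 2), 84, false)]),
  (1272, (0, 0), [53], []),
  (1284, (0, 0), [3], []),
  (1296, (0, 0), [], []),
  (1308, (0, 0), [3], []),
  (1320, (0, 0), [11], [((11, 2, 5), 8, false), ((11, 2, 5), 24, false), ((11, 2, 5), 40, false), ((11, 5, 2), 44, false), ((11, 10, 1), 4, true), ((11, 10, 1), 8, true), ((11, 10, 1), 12, true), ((11, 10, 1), 20, true), ((11, 10, 1), 24, true), ((11, 10, 1), 40, true), ((11, 10, 1), 60, true)]),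
  (1332, (0, 0), [37], []),
  (1344, (0, 0), [7], [((7, 2, 12), 64, false), ((7, 3, 1), 12, false), ((7, 3, 1), 24, false), ((7, 3, 1), 48, false), ((7, 3, 1), 96, false), ((7, 3, 8), 64, false), ((7, 6, 4), 64, false)]),
  (1356, (0, 0), [3], [])]

theorem cert2_ok : cert2.all okC = true := by decide +kernel

def cert7 : List Cert := [
  (2520, (0, 0), [5, 7], [((5, 2, 2), 8, false), ((5, 2, 2), 24, false), ((5, 2, 2), 40, false), ((5, 2, 2), 120, false), ((5, 2, 7), 8, false), ((5, 2, 7), 24, false), ((5, 2, 7), 28, false), ((5, 2, 7), 56, false), ((5, 2, 7), 84, false), ((5, 2, 7), 168, false), ((5, 2, 12), 8, false), ((5, 2, 12), 24, false), ((5, 2, 12), 40, false), ((5, 2, 12), 72, false), ((5, 2, 12), 120, false), ((5, 2, 12), 140, false), ((5, 4, 1), 8, false), ((5, 4, 1), 12, false), ((5, 4, 1), 36, false), ((5, 4, 1), 56, false), ((5, 4, 1), 168, false), ((5, 4, 6), 8, false), ((5, 4, 6), 24, false), ((5, 4, 6), 40, false), ((5, 4, 6), 120, false), ((7, 2, 5), 8, false), ((7, 2,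 5), 24, false), ((7, 2, 5), 40, false), ((7, 2, 5), 72, false), ((7, 2, 5), 120, false), ((7, 2, 12), 28, false), ((7, 2, 12), 56, false), ((7, 2, 12), 84, false), ((7, 2, 12), 140, false), ((7, 2, 12), 168, false), ((7, 3, 1), 4, false), ((7, 3, 1), 72, false), ((7, 3, 8), 8, false), ((7, 3, 8), 20, false), ((7, 3, 8), 24, false), ((7, 3, 8), 40, false), ((7, 3, 8), 56, false), ((7, 3, 8), 60, false), ((7, 3, 8), 72, false), ((7, 3, 8), 120, false), ((7, 3, 8), 140, false), ((7, 3, 8), 168, false), ((7, 3, 8), 180, false), ((7, 6, 4), 8, false), ((7, 6, 4), 20, false), ((7, 6, 4), 24, false), ((7, 6, 4), 40, false), ((7, 6, 4), 60, false), ((7, 6, 4), 72, false), ((7, 6, 4), 120, false), ((7, 6, 4), 140, false), ((7, 6, 4), 180, false)])]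

theorem cert7_ok : cert7.all okC = true := by decide +kernel

def cert13 : List Cert := [
  (3924, (0, 0), [109], []),
  (3936, (0, 0), [41], []),
  (3948, (0, 0), [47], []),
  (3960, (0, 0), [11], [((11, 2, 4), 44, false), ((11, 2, 4), 88, false), ((11, 2, 4), 132, false), ((11, 2, 15), 8, false), ((11, 2, 15), 24, false), ((11, 2, 15), 40, false), ((11, 2, 15), 72, false), ((11, 2, 15), 120, false), ((11, 5, 6), 44, false), ((11, 5, 6), 88, false), ((11, 5, 6), 132, false), ((11, 10, 3), 8, false), ((11, 10, 3), 24, false), ((11, 10, 3), 40, false), ((11, 10, 3), 72, false), ((11, 10, 3), 120, false)]),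
  (3972, (0, 0), [3], []),
  (3984, (0, 0), [83], []),
  (3996, (0, 0), [37], []),
  (4008, (0, 0), [167], []),
  (4020, (0, 0), [67], []),
  (4032, (0, 0), [7], [((7, 2, 1), 64, false), ((7, 2, 1), 192, false), ((7, 2, 8), 64, false), ((7, 2, 8), 192, false), ((7, 3, 3), 64, false), ((7, 3, 3), 192, false)]),
  (4044, (0, 0), [3], []),
  (4056, (13, 2), [], []),
  (4068, (0, 0), [113], []),
  (4080, (0, 0), [5, 17], [((5, 2, 8), 16, false), ((5, 4, 4), 16, false), ((17, 2, 1), 12, false), ((17, 2, 1), 24, false), ((17, 2, 1), 48, false), ((17, 2, 1), 80, false)]),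
  (4092, (0, 0), [11], []),
  (4104, (0, 0), [19], []),
  (4116, (0, 0), [3], []),
  (4128, (0, 0), [43], []),
  (4140, (0, 0), [23], []),
  (4152, (0, 0), [173], []),
  (4164, (0, 0), [3], []),
  (4176, (0, 0), [29], []),
  (4188, (0, 0), [3], [])]

theorem cert13_ok : cert13.all okC = true := by decide +kernel

def cert18 : List Cert := [
  (4680, (0, 0), [13], [((13, 3, 3), 8, false), ((13, 3, 3), 24, false), ((13, 3, 3), 40, false), ((13, 3, 3), 72, false), ((13, 3, 3), 120, false)]),
  (4692, (0, 0), [23], []),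
  (4704, (7, 2), [], []),
  (4716, (0, 0), [131], []),
  (4728, (0, 0), [197], []),
  (4740, (0, 0), [5], []),
  (4752, (0, 0), [11], [((11, 2, 18), 16, false), ((11, 2, 18), 48, false), ((11, 2, 18), 144, false)]),
  (4764, (0, 0), [3], []),
  (4776, (0, 0), [199], []),
  (4788, (0, 0), [19], []),
  (4800, (0, 0), [3], [((3, 2, 2), 64, false), ((3, 2, 2), 320, false), ((3, 2, 5), 64, false), ((3, 2, 5), 320, false), ((3, 2, 8), 64, false), ((3, 2, 8), 320, false), ((3, 2, 20), 64, false), ((3, 2, 20), 320, false), ((3, 2, 32), 64, false), ((3, 2, 32), 320, false), ((3, 2, 50), 64, false), ((3, 2, 50), 320, false)]),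
  (4812, (0, 0), [3], []),
  (4824, (0, 0), [67], []),
  (4836, (0, 0), [13], []),
  (4848, (0, 0), [101], []),
  (4860, (3, 5), [], []),
  (4872, (0, 0), [29], []),
  (4884, (0, 0), [37], [])]

theorem cert18_ok : cert18.all okC = true := by decide +kernel

def cert19 : List Cert := [
  (4896, (0, 0), [17], [((17, 2, 8), 32, false), ((17, 2, 8), 96, false), ((17, 4, 4), 32, false), ((17, 4, 4), 96, false), ((17, 8, 2), 32, false), ((17, 8, 2), 96, false), ((17, 16, 1), 32, false), ((17, 16, 1), 96, false)]),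
  (4908, (0, 0), [3], []),
  (4920, (0, 0), [41], []),
  (4932, (0, 0), [137], []),
  (4944, (0, 0), [103], []),
  (4956, (0, 0), [7], []),
  (4968, (0, 0), [23], []),
  (4980, (0, 0), [83], []),
  (4992, (0, 0), [13], []),
  (5004, (0, 0), [139], []),
  (5016, (0, 0), [11], []),
  (5028, (0, 0), [3], [])]

theorem cert19_ok : cert19.all okC = true := by decide +kernel

def cert22 : List Cert := [
  (5472, (0, 0), [19], [((19, 3, 1), 32, false), ((19, 3, 1), 96, false)]),
  (5484, (0, 0), [3], []),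
  (5496, (0, 0), [229], []),
  (5508, (0, 0), [17], [((17, 2, 9), 12, false), ((17, 2, 9), 36, false), ((17, 2, 9), 108, false)]),
  (5520, (0, 0), [23], [((23, 2, 5), 16, false), ((23, 2, 5), 48, false), ((23, 2, 5), 80, false)]),
  (5532, (0, 0), [3], []),
  (5544, (0, 0), [11], []),
  (5556, (0, 0), [3], []),
  (5568, (0, 0), [29], []),
  (5580, (0, 0), [31], []),
  (5592, (0, 0), [233], []),
  (5604, (0, 0), [3], []),
  (5616, (0, 0), [13], [((13, 2, 8), 16, false), ((13, 2, 8), 48, false), ((13, 2, 8), 144, false), ((13, 3, 1), 4, false), ((13, 3, 1), 8, false), ((13, 3, 1), 12, false), ((13, 3, 1), 16, false), ((13, 3, 1), 24, false), ((13, 3, 1), 36, false), ((13, 3, 1), 72, false), ((13, 3, 1), 108, false), ((13, 3, 1), 144, false), ((13, 3, 1), 216, false), ((13, 4, 4), 16, false), ((13, 4, 4), 48, false), ((13, 4, 4), 144, false)]),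
  (5628, (0, 0), [67], []),
  (5640, (0, 0), [47], []),
  (5652, (0, 0), [157], []),
  (5664, (0, 0), [59], []),
  (5676, (0, 0), [11], []),
  (5688, (0, 0), [79], []),
  (5700, (0, 0), [19], [((19, 3, 5), 12, false), ((19, 3, 5), 20, false), ((19, 3, 5), 60, false), ((19, 3, 5), 100, false)]),
  (5712, (0, 0), [17], []),
  (5724, (0, 0), [53], [((53, 2, 1), 12, false), ((53, 2, 1), 36, false)]),
  (5736, (0, 0), [239], []),
  (5748, (0, 0), [3], [])]

theorem cert22_ok : cert22.all okC = true := by decide +kernel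

def cert24 : List Cert := [
  (5772, (0, 0), [37], []),
  (5784, (0, 0), [241], []),
  (5796, (0, 0), [23], []),
  (5808, (11, 2), [], []),
  (5820, (0, 0), [97], []),
  (5832, (0, 0), [], []),
  (5844, (0, 0), [3], []),
  (5856, (0, 0), [61], []),
  (5868, (0, 0), [163], []),
  (5880, (7, 2), [], []),
  (5892, (0, 0), [3], []),
  (5904, (0, 0), [41], []),
  (5916, (0, 0), [17], []),
  (5928, (0, 0), [13], []),
  (5940, (0, 0), [11], [((11, 2, 6), 44, false), ((11, 2, 6), 132, false), ((11, 5, 9), 12, false), ((11, 5, 9), 20, false), ((11, 5, 9), 36, false), ((11, 5, 9), 60, false), ((11, 5, 9), 108, false), ((11, 5, 9), 180, false)]),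
  (5952, (0, 0), [31], [((31, 2, 3), 64, false), ((31, 3, 2), 64, false), ((31, 6, 1), 64, false)]),
  (5964, (0, 0), [71], []),
  (5976, (0, 0), [83], []),
  (5988, (0, 0), [3], [])]

theorem cert24_ok : cert24.all okC = true := by decide +kernel

end Cfsg.Agent.Small
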