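import Cfsg.Agent.Small.Sieve

/-!
# Certificates for the sieve
-/

set_option autoImplicit false
set_option maxRecDepth 100000

namespace Cfsg.Agent.Small

def cert1 : List Cert := [
  (492, (0, 0), [3], []),
  (504, (0, 0), [7], [((7, 2, 1), 12, false), ((7, 2, 1), 24, false), ((7, 2, 1), 36, false)]),
  (516, (0, 0), [3], []),
  (528, (0, 0), [11], [((11, 2, 2), 16, false)]),
  (540, (0, 0), [5], []),
  (552, (0, 0), [23], []),
  (564, (0, 0), [3], []),
  (576, (0, 0), [], []),
  (588, (0, 0), [3], []),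
  (600, (5, 2), [], []),
  (612, (0, 0), [17], [((17, 2, 1), 12, false)]),
  (624, (0, 0), [13], []),
  (636, (0, 0), [3], []),
  (648, (0, 0), [], []),
  (660, (0, 0), [11], [((11, 5, 1), 4, false), ((11, 5, 1), 20, false)]),
  (672, (0, 0), [7], [((7, 2, 6), 32, false), ((7, 3, 4), 32, false), ((7, 6, 2), 32, false)]),
  (684, (0, 0), [19], []),
  (696, (0, 0), [29], []),
  (708, (0, 0), [3], []),
  (720, (0, 0), [5], [((5, 2, 2), 16, false), ((5, 2, 2), 48, false), ((5, 4, 1), 16, false), ((5, 4, 1), 48, false)]),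
  (732, (0, 0), [3], []),
  (744, (0, 0), [31], []),
  (756, (0, 0), [7], [((7, 3, 1), 12, false), ((7, 3, 1), 36, false)]),
  (768, (0, 0), [], []),
  (780, (0, 0), [13], []),
  (792, (0, 0), [11], [((11, 2, 3), 8, false), ((11, 2, 3), 24, false)]),
  (804, (0, 0), [3], []),
  (816, (0, 0), [17], []),
  (828, (0, 0), [23], []),
  (840, (0, 0), [7], [((7, 2, 4), 28, false), ((7, 2, 4), 56, false)]),
  (852, (0, 0), [3], []),
  (864, (0, 0), [], []),
  (876, (0, 0), [3], []),
  (888, (0, 0), [37], []),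
  (900, (5, 2), [], []),
  (912, (0, 0), [19], []),
  (924, (0, 0), [11], []),
  (936, (0, 0), [13], []),
  (948, (0, 0), [3], []),
  (960, (0, 0), [5], [((5, 2, 1), 64, false), ((5, 2, 6), 64, false), ((5, 4, 3), 64, false)])]

theorem cert1_ok : cert1.all okC = true := by decide +kernel

def cert4 : List Cert := [
  (1680, (0, 0), [7], [((7, 2, 1), 12, false), ((7, 2, 1), 20, false), ((7, 2, 1), 24, false), ((7, 2, 1), 40, false), ((7, 2, 1), 48, false), ((7, 2, 1), 60, false), ((7, 2, 1), 80, false), ((7, 2, 1), 120, false), ((7, 2, 8), 16, false), ((7, 2, 8), 48, false), ((7, 2, 8), 80, false), ((7, 2, 8), 112, false)]),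
  (1692, (0, 0), [47], []),
  (1704, (0, 0), [71], []),
  (1716, (0, 0), [3, 11, 13], [((3, 2, 22), 12, false)]),
  (1728, (0, 0), [], []),
  (1740, (0, 0), [5], []),
  (1752, (0, 0), [73], []),
  (1764, (7, 2), [], []),
  (1776, (0, 0), [37], []),
  (1788, (0, 0), [3], []),
  (1800, (5, 2), [], []),
  (1812, (0, 0), [3], []),
  (1824, (0, 0), [19], []),
  (1836, (0, 0), [17], [((17, 2, 3), 12, false), ((17, 2, 3), 36, false)]),
  (1848, (0, 0), [11], []),
  (1860, (0, 0), [31], []),
  (1872, (0, 0), [13], []),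
  (1884, (0, 0), [3], []),
  (1896, (0, 0), [79], []),
  (1908, (0, 0), [53], []),
  (1920, (0, 0), [5], [((5, 2, 2), 128, false), ((5, 2, 12), 128, false), ((5, 4, 1), 128, false), ((5, 4, 6), 128, false)]),
  (1932, (0, 0), [23], []),
  (1944, (0, 0), [], []),
  (1956, (0, 0), [3], []),
  (1968, (0, 0), [41], []),
  (1980, (0, 0), [11], [((11, 2, 2), 44, false), ((11, 5, 3), 12, false), ((11, 5, 3), 20, false), ((11, 5, 3), 36, false), ((11, 5, 3), 60, false)]),
  (1992, (0, 0), [83], []),
  (2004, (0, 0), [3], []),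
  (2016, (0, 0), [7], [((7, 2, 4), 32, false), ((7, 2, 4), 96, false)]),
  (2028, (0, 0), [3], []),
  (2040, (0, 0), [17], []),
  (2052, (0, 0), [19], []),
  (2064, (0, 0), [43], []),
  (2076, (0, 0), [3], []),
  (2088, (0, 0), [29], []),
  (2100, (5, 2), [], []),
  (2112, (0, 0), [11], [((11, 2, 8), 64, false)]),
  (2124, (0, 0), [59], []),
  (2136, (0, 0), [89], []),
  (2148, (0, 0), [3], [])]

theorem cert4_ok : cert4.all okC = true := by decide +kernel

def cert9 : List Cert := [
  (3012, (0, 0), [3], []),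
  (3024, (0, 0), [7], [((7, 2, 6), 16, false), ((7, 2, 6), 48, false), ((7, 2, 6), 144, false), ((7, 3, 4), 16, false), ((7, 3, 4), 48, false), ((7, 3, 4), 144, false), ((7, 6, 2), 16, false), ((7, 6, 2), 48, false), ((7, 6, 2), 144, false)]),
  (3036, (0, 0), [23], []),
  (3048, (0, 0), [127], []),
  (3060, (0, 0), [17], [((17, 2, 5), 12, false), ((17, 2, 5), 20, false), ((17, 2, 5), 36, false), ((17, 2, 5), 60, false)]),
  (3072, (0, 0), [], []),
  (3084, (0, 0), [3], []),
  (3096, (0, 0), [43], []),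
  (3108, (0, 0), [37], []),
  (3120, (0, 0), [13], [((13, 2, 3), 16, false), ((13, 2, 3), 48, false), ((13, 2, 3), 80, false), ((13, 3, 2), 52, false), ((13, 3, 2), 104, false), ((13, 3, 2), 208, false), ((13, 6, 1), 16, false), ((13, 6, 1), 48, false), ((13, 6, 1), 80, false)]),
  (3132, (0, 0), [29], []),
  (3144, (0, 0), [131], []),
  (3156, (0, 0), [3], []),
  (3168, (0, 0), [11], [((11, 2, 1), 32, false), ((11, 2, 1), 96, false), ((11, 2, 12), 32, false), ((11, 2, 12), 96, false)]),
  (3180, (0, 0), [53], []),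
  (3192, (0, 0), [19], []),
  (3204, (0, 0), [89], []),
  (3216, (0, 0), [67], []),
  (3228, (0, 0), [3], []),
  (3240, (3, 4), [], []),
  (3252, (0, 0), [3], []),
  (3264, (0, 0), [17], []),
  (3276, (0, 0), [13], [((13, 2, 9), 12, false), ((13, 2, 9), 28, false), ((13, 2, 9), 36, false), ((13, 2, 9), 84, false), ((13, 3, 6), 52, false), ((13, 6, 3), 12, false), ((13, 6, 3), 28, false), ((13, 6, 3), 36, false), ((13, 6, 3), 84, false)]),
  (3288, (0, 0), [137], []),
  (3300, (0, 0), [11], []),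
  (3312, (0, 0), [23], [((23, 2, 3), 16, false), ((23, 2, 3), 48, false)]),
  (3324, (0, 0), [3], []),
  (3336, (0, 0), [139], []),
  (3348, (0, 0), [31], [])]

theorem cert9_ok : cert9.all okC = true := by decide +kernel

def cert10 : List Cert := [
  (3360, (0, 0), [3, 7], [((3, 2, 2), 32, false), ((3, 2, 2), 224, false), ((3, 2, 5), 32, false), ((3, 2, 5), 224, false), ((3, 2, 8), 32, false), ((3, 2, 8), 224, false), ((3, 2, 14), 32, false), ((3, 2, 14), 224, false), ((3, 2, 20), 84, false), ((3, 2, 20), 168, false), ((3, 2, 35), 32, false), ((3, 2, 35), 224, false), ((7, 2, 2), 12, false), ((7, 2, 2), 24, false), ((7, 2, 2), 48, false), ((7, 2, 2), 60, false), ((7, 2, 2), 96, false), ((7, 2, 2), 120, false), ((7, 2, 2), 160, false), ((7, 2, 2), 240, false), ((7, 2, 16), 32, false), ((7, 2, 16), 96, false), ((7, 2, 16), 160, false), ((7, 2, 16), 224, false)])]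

theorem cert10_ok : cert10.all okC = true := by decide +kernel

def cert11 : List Cert := [
  (3372, (0, 0), [3], []),
  (3384, (0, 0), [47], []),
  (3396, (0, 0), [3], []),
  (3408, (0, 0), [71], []),
  (3420, (0, 0), [19], [((19, 3, 3), 12, false), ((19, 3, 3), 20, false), ((19, 3, 3), 36, false), ((19, 3, 3), 60, false), ((19, 9, 1), 4, false), ((19, 9, 1), 12, false), ((19, 9, 1), 36, false), ((19, 9, 1), 60, false)]),
  (3432, (0, 0), [11], [((11, 2, 2), 44, false), ((11, 2, 2), 88, false), ((11, 2, 2), 132, false)]),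
  (3444, (0, 0), [3, 7], []),
  (3456, (0, 0), [], []),
  (3468, (17, 2), [], []),
  (3480, (0, 0), [5], [((5, 2, 3), 8, false), ((5, 2, 3), 24, false)]),
  (3492, (0, 0), [97], []),
  (3504, (0, 0), [73], []),
  (3516, (0, 0), [3], []),
  (3528, (7, 2), [], []),
  (3540, (0, 0), [5], []),
  (3552, (0, 0), [37], []),
  (3564, (0, 0), [11], []),
  (3576, (0, 0), [149], []),
  (3588, (0, 0), [23], []),
  (3600, (5, 2), [], []),
  (3612, (0, 0), [43], []),
  (3624, (0, 0), [151], []),
  (3636, (0, 0), [101], []),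
  (3648, (0, 0), [19], [((19, 2, 1), 64, false)]),
  (3660, (0, 0), [61], []),
  (3672, (0, 0), [17], [((17, 2, 6), 68, false), ((17, 2, 6), 204, false), ((17, 4, 3), 8, false), ((17, 4, 3), 24, false), ((17, 4, 3), 72, false)]),
  (3684, (0, 0), [3], []),
  (3696, (0, 0), [11], [((11, 2, 3), 16, false), ((11, 2, 3), 48, false), ((11, 2, 3), 112, false)]),
  (3708, (0, 0), [103], []),
  (3720, (0, 0), [31], []),
  (3732, (0, 0), [3], []),
  (3744, (0, 0), [13], [((13, 2, 1), 32, false), ((13, 2, 1), 96, false)]),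
  (3756, (0, 0), [3], []),
  (3768, (0, 0), [157], [])]

theorem cert11_ok : cert11.all okC = true := by decide +kernel

def cert12 : List Cert := [
  (3780, (0, 0), [5], [((5, 2, 3), 12, false), ((5, 2, 3), 28, false), ((5, 2, 3), 36, false), ((5, 2, 3), 84, false), ((5, 2, 3), 108, false), ((5, 2, 3), 252, false), ((5, 2, 18), 20, false), ((5, 2, 18), 60, false), ((5, 2, 18), 180, false), ((5, 4, 9), 4, true), ((5, 4, 9), 12, true), ((5, 4, 9), 28, true), ((5, 4, 9), 36, true), ((5, 4, 9), 84, true), ((5, 4, 9), 108, true), ((5, 4, 9), 252, true)]),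
  (3792, (0, 0), [79], []),
  (3804, (0, 0), [3], []),
  (3816, (0, 0), [53], []),
  (3828, (0, 0), [11], []),
  (3840, (0, 0), [5], [((5, 2, 4), 256, false), ((5, 2, 24), 256, false), ((5, 4, 2), 256, false), ((5, 4, 12), 256, false)]),
  (3852, (0, 0), [107], []),
  (3864, (0, 0), [23], []),
  (3876, (0, 0), [17], []),
  (3888, (0, 0), [], []),
  (3900, (0, 0), [13], []),
  (3912, (0, 0), [163], [])]

theorem cert12_ok : cert12.all okC = true := by decide +kernel

def cert14 : List Cert := [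
  (4200, (0, 0), [3, 7], [((3, 2, 1), 28, false), ((3, 2, 1), 56, false), ((3, 2, 1), 140, false), ((3, 2, 1), 280, false), ((3, 2, 4), 28, false), ((3, 2, 4), 56, false), ((3, 2, 4), 84, false), ((3, 2, 4), 140, false), ((3, 2, 4), 280, false), ((3, 2, 7), 28, false), ((3, 2, 7), 56, false), ((3, 2, 7), 140, false), ((3, 2, 7), 280, false), ((3, 2, 10), 28, false), ((3, 2, 10), 56, false), ((3, 2, 10), 84, false), ((3, 2, 10), 140, false), ((3, 2, 10), 280, false), ((3, 2, 25), 28, false), ((3, 2, 25), 56, false), ((3, 2, 25), 140, false), ((3, 2, 25), 280, false), ((3, 2, 28), 28, false), ((3, 2, 28), 56, false), ((3, 2, 28), 84, false), ((3, 2, 28), 140, false), ((3, 2, 28), 280, false), ((7, 2, 6), 12, false), ((7, 2, 6), 24, false), ((7, 2, 6), 28, false), ((7, 2, 6), 56, false), ((7, 2, 6), 60, false), ((7, 2, 6), 84, false), ((7, 2, 6), 120, false), ((7, 2, 6), 140, false), ((7, 2, 6), 280, false), ((7, 2, 20), 12, false), ((7, 2, 20), 24, false), ((7, 2, 20), 28, false), ((7,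 2, 20), 56, false), ((7, 2, 20), 60, false), ((7, 2, 20), 84, false), ((7, 2, 20), 120, false), ((7, 2, 20), 140, false), ((7, 2, 20), 280, false), ((7, 3, 4), 8, false), ((7, 3, 4), 12, false), ((7, 3, 4), 24, false), ((7, 3, 4), 40, false), ((7, 3, 4), 60, false), ((7, 3, 4), 84, false), ((7, 3, 4), 120, false), ((7, 3, 4), 200, false)])]

theorem cert14_ok : cert14.all okC = true := by decide +kernel

end Cfsg.Agent.Small
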