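import Cfsg.Agent.Small.Sieve

/-!
# Certificates for the sieve
-/

set_option autoImplicit false
set_option maxRecDepth 100000

namespace Cfsg.Agent.Small

def cert3 : List Cert := [
  (1368, (0, 0), [19], []),
  (1380, (0, 0), [23], []),
  (1392, (0, 0), [29], []),
  (1404, (0, 0), [13], [((13, 4, 1), 12, false), ((13, 4, 1), 36, false)]),
  (1416, (0, 0), [59], []),
  (1428, (0, 0), [7], []),
  (1440, (0, 0), [5], [((5, 2, 4), 32, false), ((5, 2, 4), 96, false), ((5, 2, 9), 32, false), ((5, 2, 9), 96, false), ((5, 4, 2), 32, false), ((5, 4, 2), 96, false)]),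
  (1452, (0, 0), [3], []),
  (1464, (0, 0), [61], []),
  (1476, (0, 0), [41], []),
  (1488, (0, 0), [31], []),
  (1500, (5, 3), [], []),
  (1512, (0, 0), [7], [((7, 2, 3), 8, false), ((7, 2, 3), 24, false), ((7, 2, 3), 72, false), ((7, 3, 2), 28, false), ((7, 3, 2), 84, false), ((7, 6, 1), 4, true), ((7, 6, 1), 8, true), ((7, 6, 1), 12, true), ((7, 6, 1), 24, true), ((7, 6, 1), 36, true), ((7, 6, 1), 72, true), ((7, 6, 1), 108, true)]),
  (1524, (0, 0), [3], []),
  (1536, (0, 0), [], []),
  (1548, (0, 0), [43], []),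
  (1560, (0, 0), [13], [((13, 3, 1), 8, false), ((13, 3, 1), 24, false), ((13, 3, 1), 40, false)]),
  (1572, (0, 0), [3], []),
  (1584, (0, 0), [11], [((11, 2, 6), 16, false), ((11, 2, 6), 48, false)]),
  (1596, (0, 0), [19], []),
  (1608, (0, 0), [67], []),
  (1620, (3, 4), [], []),
  (1632, (0, 0), [17], []),
  (1644, (0, 0), [3], []),
  (1656, (0, 0), [23], []),
  (1668, (0, 0), [3], [])]

theorem cert3_ok : cert3.all okC = true := by decide +kernel

def cert5 : List Cert := [
  (2160, (0, 0), [5], [((5, 2, 1), 16, false), ((5, 2, 1), 48, false), ((5, 2, 1), 144, false), ((5, 2, 6), 16, false), ((5, 2, 6), 48, false), ((5, 2, 6), 144, false), ((5, 4, 3), 16, false), ((5, 4, 3), 48, false), ((5, 4, 3), 144, false)]),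
  (2172, (0, 0), [3], []),
  (2184, (0, 0), [7], [((7, 2, 2), 8, false), ((7, 2, 2), 24, false), ((7, 2, 2), 56, false)]),
  (2196, (0, 0), [61], []),
  (2208, (0, 0), [23], [((23, 2, 2), 32, false)]),
  (2220, (0, 0), [37], []),
  (2232, (0, 0), [31], []),
  (2244, (0, 0), [17], []),
  (2256, (0, 0), [47], []),
  (2268, (0, 0), [7], [((7, 2, 1), 12, false), ((7, 2, 1), 36, false), ((7, 2, 1), 108, false), ((7, 3, 3), 12, false), ((7, 3, 3), 36, false), ((7, 3, 3), 108, false)]),
  (2280, (0, 0), [5], [((5, 2, 3), 8, false), ((5, 2, 3), 24, false)]),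
  (2292, (0, 0), [3], []),
  (2304, (0, 0), [], []),
  (2316, (0, 0), [3], []),
  (2328, (0, 0), [97], []),
  (2340, (0, 0), [13], []),
  (2352, (7, 2), [], []),
  (2364, (0, 0), [3], []),
  (2376, (0, 0), [11], [((11, 2, 9), 8, false), ((11, 2, 9), 24, false), ((11, 2, 9), 72, false)]),
  (2388, (0, 0), [3], []),
  (2400, (5, 2), [], []),
  (2412, (0, 0), [67], []),
  (2424, (0, 0), [101], []),
  (2436, (0, 0), [29], [])]

theorem cert5_ok : cert5.all okC = true := by decide +kernel

def cert6 : List Cert := [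
  (2448, (0, 0), [17], [((17, 2, 4), 16, false), ((17, 2, 4), 48, false), ((17, 4, 2), 16, false), ((17, 4, 2), 48, false), ((17, 8, 1), 12, false), ((17, 8, 1), 24, false), ((17, 8, 1), 36, false), ((17, 8, 1), 48, false), ((17, 8, 1), 72, false)]),
  (2460, (0, 0), [41], []),
  (2472, (0, 0), [103], []),
  (2484, (0, 0), [23], []),
  (2496, (0, 0), [13], []),
  (2508, (0, 0), [11], [])]

theorem cert6_ok : cert6.all okC = true := by decide +kernel

def cert8 : List Cert := [
  (2532, (0, 0), [3], []),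
  (2544, (0, 0), [53], []),
  (2556, (0, 0), [71], []),
  (2568, (0, 0), [107], []),
  (2580, (0, 0), [43], []),
  (2592, (0, 0), [], []),
  (2604, (0, 0), [7], []),
  (2616, (0, 0), [109], []),
  (2628, (0, 0), [73], []),
  (2640, (0, 0), [11], [((11, 2, 10), 16, false), ((11, 2, 10), 48, false), ((11, 2, 10), 80, false), ((11, 5, 4), 16, false), ((11, 5, 4), 48, false), ((11, 5, 4), 80, false), ((11, 10, 2), 16, false), ((11, 10, 2), 48, false), ((11, 10, 2), 80, false)]),
  (2652, (0, 0), [13], []),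
  (2664, (0, 0), [37], []),
  (2676, (0, 0), [3], []),
  (2688, (0, 0), [7], [((7, 2, 3), 128, false), ((7, 3, 2), 128, false), ((7, 6, 1), 128, false)]),
  (2700, (5, 2), [], []),
  (2712, (0, 0), [113], []),
  (2724, (0, 0), [3], []),
  (2736, (0, 0), [19], []),
  (2748, (0, 0), [3], []),
  (2760, (0, 0), [23], []),
  (2772, (0, 0), [11], []),
  (2784, (0, 0), [29], []),
  (2796, (0, 0), [3], []),
  (2808, (0, 0), [13], [((13, 2, 4), 52, false), ((13, 4, 2), 52, false)]),
  (2820, (0, 0), [47], []),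
  (2832, (0, 0), [59], []),
  (2844, (0, 0), [79], []),
  (2856, (0, 0), [17], []),
  (2868, (0, 0), [3], []),
  (2880, (0, 0), [5], [((5, 2, 3), 64, false), ((5, 2, 3), 192, false), ((5, 2, 8), 64, false), ((5, 2, 8), 192, false), ((5, 2, 18), 64, false), ((5, 2, 18), 192, false), ((5, 4, 4), 64, false), ((5, 4, 4), 192, false), ((5, 4, 9), 64, false), ((5, 4, 9), 192, false)]),
  (2892, (0, 0), [3], []),
  (2904, (11, 2), [], []),
  (2916, (0, 0), [], []),
  (2928, (0, 0), [61], []),
  (2940, (7, 2), [], []),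
  (2952, (0, 0), [41], []),
  (2964, (0, 0), [13], []),
  (2976, (0, 0), [31], [((31, 3, 1), 32, false)]),
  (2988, (0, 0), [83], []),
  (3000, (5, 3), [], [])]

theorem cert8_ok : cert8.all okC = true := by decide +kernel

def cert16 : List Cert := [
  (4320, (0, 0), [5], [((5, 2, 2), 32, false), ((5, 2, 2), 96, false), ((5, 2, 2), 288, false), ((5, 2, 12), 32, false), ((5, 2, 12), 96, false), ((5, 2, 12), 288, false), ((5, 2, 27), 32, false), ((5, 2, 27), 96, false), ((5, 2, 27), 288, false), ((5, 4, 1), 32, false), ((5, 4, 1), 96, false), ((5, 4, 1), 288, false), ((5, 4, 6), 32, false), ((5, 4, 6), 96, false), ((5, 4, 6), 288, false)])]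

theorem cert16_ok : cert16.all okC = true := by decide +kernel

def cert17 : List Cert := [
  (4332, (0, 0), [3], []),
  (4344, (0, 0), [181], []),
  (4356, (11, 2), [], []),
  (4368, (0, 0), [7], [((7, 2, 4), 16, false), ((7, 2, 4), 48, false), ((7, 2, 4), 112, false)]),
  (4380, (0, 0), [73], []),
  (4392, (0, 0), [61], []),
  (4404, (0, 0), [3], []),
  (4416, (0, 0), [23], [((23, 2, 4), 64, false)]),
  (4428, (0, 0), [41], []),
  (4440, (0, 0), [37], []),
  (4452, (0, 0), [53], []),
  (4464, (0, 0), [31], []),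
  (4476, (0, 0), [3], []),
  (4488, (0, 0), [17], []),
  (4500, (5, 3), [], []),
  (4512, (0, 0), [47], [((47, 2, 1), 32, false)]),
  (4524, (0, 0), [13], []),
  (4536, (0, 0), [7], [((7, 2, 2), 28, false), ((7, 2, 2), 84, false), ((7, 2, 2), 252, false), ((7, 2, 9), 8, false), ((7, 2, 9), 24, false), ((7, 2, 9), 72, false), ((7, 2, 9), 216, false), ((7, 3, 6), 8, false), ((7, 3, 6), 24, false), ((7, 3, 6), 72, false), ((7, 3, 6), 216, false), ((7, 6, 3), 8, false), ((7, 6, 3), 24, false), ((7, 6, 3), 72, false), ((7, 6, 3), 216, false)]),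
  (4548, (0, 0), [3], []),
  (4560, (0, 0), [19], [((19, 2, 6), 16, false), ((19, 2, 6), 48, false), ((19, 2, 6), 80, false), ((19, 3, 4), 16, false), ((19, 3, 4), 48, false), ((19, 3, 4), 80, false), ((19, 6, 2), 16, false), ((19, 6, 2), 48, false), ((19, 6, 2), 80, false)]),
  (4572, (0, 0), [127], []),
  (4584, (0, 0), [191], []),
  (4596, (0, 0), [3], []),
  (4608, (0, 0), [], []),
  (4620, (0, 0), [7, 11], [((7, 2, 1), 20, false), ((7, 2, 15), 12, false), ((7, 2, 15), 20, false), ((7, 2, 15), 60, false), ((7, 3, 10), 28, false), ((7, 3, 10), 84, false), ((7, 3, 10), 140, false), ((7, 6, 5), 20, false), ((11, 2, 1), 12, false), ((11, 2, 1), 60, false)]),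
  (4632, (0, 0), [193], []),
  (4644, (0, 0), [43], []),
  (4656, (0, 0), [97], []),
  (4668, (0, 0), [3], [])]

theorem cert17_ok : cert17.all okC = true := by decide +kernel

def cert21 : List Cert := [
  (5052, (0, 0), [3], []),
  (5064, (0, 0), [211], []),
  (5076, (0, 0), [47], []),
  (5088, (0, 0), [53], []),
  (5100, (0, 0), [17], []),
  (5112, (0, 0), [71], []),
  (5124, (0, 0), [61], []),
  (5136, (0, 0), [107], []),
  (5148, (0, 0), [11], [((11, 2, 3), 12, false), ((11, 2, 3), 36, false), ((11, 2, 3), 52, false), ((11, 2, 3), 156, false)]),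
  (5160, (0, 0), [43], []),
  (5172, (0, 0), [3], []),
  (5184, (0, 0), [], []),
  (5196, (0, 0), [3], []),
  (5208, (0, 0), [31], []),
  (5220, (0, 0), [29], [((29, 2, 3), 12, false), ((29, 2, 3), 20, false), ((29, 2, 3), 36, false), ((29, 2, 3), 60, false)]),
  (5232, (0, 0), [109], []),
  (5244, (0, 0), [19], []),
  (5256, (0, 0), [73], []),
  (5268, (0, 0), [3], []),
  (5280, (0, 0), [11], [((11, 2, 20), 32, false), ((11, 2, 20), 96, false), ((11, 2, 20), 160, false), ((11, 5, 8), 32, false), ((11, 5, 8), 96, false), ((11, 5, 8), 160, false), ((11, 10, 4), 32, false), ((11, 10, 4), 96, false), ((11, 10, 4), 160, false)]),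
  (5292, (7, 2), [], []),
  (5304, (0, 0), [13], []),
  (5316, (0, 0), [3], []),
  (5328, (0, 0), [37], []),
  (5340, (0, 0), [5], []),
  (5352, (0, 0), [223], []),
  (5364, (0, 0), [149], []),
  (5376, (0, 0), [7], [((7, 2, 6), 256, false), ((7, 3, 4), 256, false), ((7, 6, 2), 256, false)]),
  (5388, (0, 0), [3], []),
  (5400, (5, 2), [], []),
  (5412, (0, 0), [11], []),
  (5424, (0, 0), [113], []),
  (5436, (0, 0), [151], []),
  (5448, (0, 0), [227], []),
  (5460, (0, 0), [13], [((13, 2, 2), 52, false), ((13, 2, 2), 156, false), ((13, 2, 2), 364, false), ((13, 2, 15), 12, false), ((13, 2, 15), 20, false), ((13, 2, 15), 28, false), ((13, 2, 15), 60, false), ((13, 2, 15), 84, false), ((13, 2, 15), 140, false), ((13, 3, 10), 52, false), ((13, 3, 10), 156, false), ((13, 3, 10), 364, false), ((13, 4, 1), 12, false), ((13, 4, 1), 20, false), ((13, 4, 1), 28, false), ((13, 4, 1), 60, false), ((13, 4, 1), 84, false), ((13, 4, 1), 140, false), ((13, 6, 5), 12, false), ((13, 6, 5), 20, false), ((13,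 6, 5), 28, false), ((13, 6, 5), 60, false), ((13, 6, 5), 84, false), ((13, 6, 5), 140, false)])]

theorem cert21_ok : cert21.all okC = true := by decide +kernel

def cert23 : List Cert := [
  (5760, (0, 0), [5], [((5, 2, 1), 128, false), ((5, 2, 1), 384, false), ((5, 2, 6), 128, false), ((5, 2, 6), 384, false), ((5, 2, 16), 128, false), ((5, 2, 16), 384, false), ((5, 2, 36), 128, false), ((5, 2, 36), 384, false), ((5, 4, 3), 128, false), ((5, 4, 3), 384, false), ((5, 4, 8), 128, false), ((5, 4, 8), 384, false), ((5, 4, 18), 128, false), ((5, 4, 18), 384, false)])]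

theorem cert23_ok : cert23.all okC = true := by decide +kernel

end Cfsg.Agent.Small
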