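import Cfsg.Agent.Small.Sieve

/-!
# Certificates for the sieve
-/

set_option autoImplicit false
set_option maxRecDepth 100000

namespace Cfsg.Agent.Small

def cert0 : List Cert := [
  (12, (0, 0), [], []),
  (24, (0, 0), [], []),
  (36, (0, 0), [], []),
  (48, (0, 0), [], []),
  (60, (0, 0), [3], []),
  (72, (0, 0), [], []),
  (84, (0, 0), [3], []),
  (96, (0, 0), [], []),
  (108, (0, 0), [], []),
  (120, (0, 0), [3], [((3, 2, 2), 8, false)]),
  (132, (0, 0), [3], []),
  (144, (0, 0), [], []),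
  (156, (0, 0), [3], []),
  (168, (0, 0), [7], [((7, 3, 1), 12, false)]),
  (180, (0, 0), [5], []),
  (192, (0, 0), [], []),
  (204, (0, 0), [3], []),
  (216, (0, 0), [], []),
  (228, (0, 0), [3], []),
  (240, (0, 0), [5], []),
  (252, (0, 0), [7], []),
  (264, (0, 0), [3], [((3, 2, 2), 8, false)]),
  (276, (0, 0), [3], []),
  (288, (0, 0), [], []),
  (300, (0, 0), [3], []),
  (312, (0, 0), [13], []),
  (324, (0, 0), [], []),
  (336, (0, 0), [7], [((7, 2, 3), 16, false), ((7, 6, 1), 16, false)]),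
  (348, (0, 0), [3], []),
  (360, (0, 0), [5], [((5, 2, 1), 12, false), ((5, 2, 1), 24, false), ((5, 2, 1), 36, false), ((5, 2, 6), 8, false), ((5, 2, 6), 24, false), ((5, 4, 3), 8, false), ((5, 4, 3), 24, false)]),
  (372, (0, 0), [3], []),
  (384, (0, 0), [], []),
  (396, (0, 0), [11], []),
  (408, (0, 0), [17], []),
  (420, (0, 0), [7], [((7, 2, 2), 28, false)]),
  (432, (0, 0), [], []),
  (444, (0, 0), [3], []),
  (456, (0, 0), [19], []),
  (468, (0, 0), [13], []),
  (480, (0, 0), [5], [((5, 2, 3), 32, false)])]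

theorem cert0_ok : cert0.all okC = true := by decide +kernel

def cert15 : List Cert := [
  (4212, (0, 0), [13], [((13, 4, 3), 12, false), ((13, 4, 3), 36, false), ((13, 4, 3), 108, false), ((13, 12, 1), 4, true), ((13, 12, 1), 12, true), ((13, 12, 1), 36, true), ((13, 12, 1), 108, true)]),
  (4224, (0, 0), [11], [((11, 2, 16), 128, false)]),
  (4236, (0, 0), [3], []),
  (4248, (0, 0), [59], []),
  (4260, (0, 0), [71], []),
  (4272, (0, 0), [89], []),
  (4284, (0, 0), [7, 17], [((17, 2, 7), 12, false), ((17, 2, 7), 36, false)]),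
  (4296, (0, 0), [179], []),
  (4308, (0, 0), [3], [])]

theorem cert15_ok : cert15.all okC = true := by decide +kernel

def cert20 : List Cert := [
  (5040, (0, 0), [5, 7], [((5, 2, 4), 4, false), ((5, 2, 4), 112, false), ((5, 2, 4), 144, false), ((5, 2, 4), 336, false), ((5, 2, 9), 16, false), ((5, 2, 9), 48, false), ((5, 2, 9), 112, false), ((5, 2, 9), 144, false), ((5, 2, 9), 336, false), ((5, 2, 14), 4, false), ((5, 2, 14), 112, false), ((5, 2, 14), 144, false), ((5, 2, 14), 336, false), ((5, 2, 24), 16, false), ((5, 2, 24), 48, false), ((5, 2, 24), 80, false), ((5, 2, 24), 112, false), ((5, 2, 24), 144, false), ((5, 2, 24), 240, false), ((5, 2, 24), 336, false), ((5, 4, 2), 4, false), ((5, 4, 2), 112, false), ((5, 4, 2), 144, false), ((5, 4, 2), 336, false), ((5, 4, 7), 16, false), ((5, 4, 7), 48, false), ((5, 4, 7), 112, false), ((5, 4, 7), 144, false), ((5, 4, 7), 336, false), ((5, 4, 12), 4, false), ((5, 4, 12), 112, false), ((5, 4, 12), 144, false), ((5, 4, 12), 336, false),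 ((7, 2, 3), 20, false), ((7, 2, 3), 40, false), ((7, 2, 3), 60, false), ((7, 2, 3), 80, false), ((7, 2, 3), 120, false), ((7, 2, 3), 180, false), ((7, 2, 3), 240, false), ((7, 2, 3), 360, false), ((7, 2, 10), 16, false), ((7, 2, 10), 48, false), ((7, 2, 10), 80, false), ((7, 2, 10), 240, false), ((7, 2, 24), 16, false), ((7, 2, 24), 48, false), ((7, 2, 24), 80, false), ((7, 2, 24), 112, false), ((7, 2, 24), 144, false), ((7, 2, 24), 240, false), ((7, 2, 24), 336, false), ((7, 3, 2), 16, false), ((7, 3, 2), 48, false), ((7, 3, 2), 80, false), ((7, 3, 2), 240, false), ((7, 3, 16), 16, false), ((7, 3, 16), 48, false), ((7, 3, 16), 80, false), ((7, 3, 16), 144, false), ((7, 3, 16), 240, false), ((7, 6, 1), 8, true), ((7, 6, 1), 12, true), ((7, 6, 1), 16, true), ((7, 6, 1), 20, true), ((7, 6, 1), 24, true), ((7, 6, 1), 36, true), ((7, 6, 1), 40, true), ((7, 6, 1), 48, true), ((7, 6, 1), 60, true), ((7, 6, 1), 72, true), ((7, 6, 1), 80, true), ((7, 6, 1), 120, true), ((7, 6, 1), 180, true),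 ((7, 6, 1), 240, true), ((7, 6, 1), 360, true), ((7, 6, 8), 16, false), ((7, 6, 8), 48, false), ((7, 6, 8), 80, false), ((7, 6, 8), 240, false)])]

theorem cert20_ok : cert20.all okC = true := by decide +kernel

end Cfsg.Agent.Small
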